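import Groth.Agent.DelIll.K912.LatMap

/-!
# Cohomology by lattices, for a covering which is a disjoint union of families

`X = ⊔ X_c`, each `X_c` covered by `U c i` (`i : ι c`), `V₀ c ≤ U c i`.  Then `H^p(X, M)` is the product of the Čech
cohomologies of the systems of lattices.
-/

set_option autoImplicit false

universe u

open CategoryTheory CategoryTheory.Limits AlgebraicGeometry Opposite TopologicalSpace
open Groth.Agent.CohqA.CechBasic Groth.Agent.CohqA.CechSheaf Groth.Agent.CurvesB.HZero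
open Groth.Agent.Fga.MumCech
open K912.Seq K912.Dim K912.CechCmp K912.LatCmp K912.LatMap

namespace K912.Fam

variable (k : Type u) [Field k] {X : Scheme.{u}} [X.Over (Spec (CommRingCat.of k))]

attribute [local instance] modP

variable {C : Type u} {ι : C → Type u} (U : ∀ c, ι c → X.Opens)

/-- The total family. -/
def tot : (Σ c, ι c) → X.Opens := fun s => U s.1 s.2

variable (M : X.Modules)

/-- The part of a cochain at one component. -/
noncomputable def pr (c : C) (p : ℕ) :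
    Cochain (tot U) M.presheaf p →ₗ[k] Cochain (U c) M.presheaf p where
  toFun f i := f fun a => ⟨c, i a⟩
  map_add' _ _ := rfl
  map_smul' _ _ := rfl

theorem pr_apply (c : C) (p : ℕ) (f : Cochain (tot U) M.presheaf p) (i : Fin (p + 1) → ι c) :
    pr k U M c p f i = f fun a => ⟨c, i a⟩ := rfl

theorem pr_dC (c : C) (p : ℕ) (f : Cochain (tot U) M.presheaf p) :
    pr k U M c (p + 1) (dC (tot U) M.presheaf p f) = dC (U c) M.presheaf p (pr k U M c p f) := by
  funext i
  rw [pr_apply, dC_apply, dC_apply]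
  rfl

/-- The families are disjoint. -/
def Disj : Prop := ∀ (c c' : C) (i : ι c) (i' : ι c'), c ≠ c' → U c i ⊓ U c' i' = ⊥

theorem sigma_eq {p : ℕ} (i : Fin (p + 1) → Σ c, ι c) (h : ∀ a, (i a).1 = (i 0).1) :
    ∃ i' : Fin (p + 1) → ι (i 0).1, (fun a => (⟨(i 0).1, i' a⟩ : Σ c, ι c)) = i := by
  refine ⟨fun a => h a ▸ (i a).2, funext fun a => ?_⟩
  have key : ∀ (c : C) (x : Σ c, ι c) (e : x.1 = c), (⟨c, e ▸ x.2⟩ : Σ c, ι c) = x := by
    rintro _ x rfl
    rfl
  exact key _ (i a) (h a)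

variable {U}

theorem subsingleton_of_mixed (hd : Disj U) {p : ℕ} (i : Fin (p + 1) → Σ c, ι c) {a : Fin (p + 1)}
    (h : (i a).1 ≠ (i 0).1) : Subsingleton (M.presheaf.obj (op (⨅ a, tot U (i a)))) := by
  have h1 : (⨅ a, tot U (i a)) = ⊥ := by
    rw [eq_bot_iff, ← hd _ _ (i a).2 (i 0).2 h]
    exact le_inf (iInf_le _ a) (iInf_le _ 0)
  have h2 : IsTerminal (((SheafOfModules.toSheaf X.ringCatSheaf).obj M).obj.obj
      (op (⨅ a, tot U (i a)))) := TopCat.Sheaf.isTerminalOfEqEmpty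
        ((SheafOfModules.toSheaf X.ringCatSheaf).obj M : TopCat.Sheaf AddCommGrpCat X) h1
  exact AddCommGrpCat.subsingleton_of_isZero ((IsZero.iff_id_eq_zero _).2 (h2.hom_ext _ _))

theorem pr_ext (hd : Disj U) {p : ℕ} {f g : Cochain (tot U) M.presheaf p}
    (h : ∀ c, pr k U M c p f = pr k U M c p g) : f = g := by
  funext i
  by_cases hi : ∀ a, (i a).1 = (i 0).1
  · obtain ⟨i', hi'⟩ := sigma_eq i hi
    rw [← hi']
    exact congrFun (h _) i'
  · push Not at hi
    obtain ⟨a, ha⟩ := hi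
    have := subsingleton_of_mixed M hd i ha
    exact Subsingleton.elim _ _

theorem exists_pr {p : ℕ} (f : ∀ c, Cochain (U c) M.presheaf p) :
    ∃ g : Cochain (tot U) M.presheaf p, ∀ c, pr k U M c p g = f c := by
  have h1 : ∀ i : Fin (p + 1) → Σ c, ι c, ∃ m : M.presheaf.obj (op (⨅ a, tot U (i a))),
      ∀ (c : C) (i' : Fin (p + 1) → ι c) (e : (fun a => (⟨c, i' a⟩ : Σ c, ι c)) = i),
        e ▸ (show M.presheaf.obj (op (⨅ a, tot U ⟨c, i' a⟩)) from f c i') = m := by
    intro i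
    by_cases hi : ∃ (c : C) (i' : Fin (p + 1) → ι c), (fun a => (⟨c, i' a⟩ : Σ c, ι c)) = i
    · obtain ⟨c, i', rfl⟩ := hi
      refine ⟨f c i', fun c₁ i₁ e => ?_⟩
      have hc : c₁ = c := congrArg Sigma.fst (congrFun e 0)
      subst hc
      have hi' : i₁ = i' := by
        funext a
        exact eq_of_heq (Sigma.mk.inj (congrFun e a)).2
      subst hi'
      rfl
    · exact ⟨0, fun c i' e => (hi ⟨c, i', e⟩).elim⟩
  choose g hg using h1
  refine ⟨g, fun c => ?_⟩
  funext i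
  exact (hg _ c i rfl).symm

theorem isB_iff (hd : Disj U) {p : ℕ} (f : Cochain (tot U) M.presheaf p) :
    IsB (tot U) M.presheaf p f ↔ ∀ c, IsB (U c) M.presheaf p (pr k U M c p f) := by
  cases p with
  | zero =>
    constructor
    · intro h c
      have h' : f = 0 := h
      rw [h']
      exact map_zero _
    · intro h
      refine pr_ext k M hd fun c => ?_
      rw [map_zero]
      exact h c
  | succ p =>
    constructor
    · rintro ⟨b, rfl⟩ c
      exact ⟨pr k U M c p b, (pr_dC k U M c p b).symm⟩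
    · intro h
      choose b hb using h
      obtain ⟨b', hb'⟩ := exists_pr k M b
      refine ⟨b', pr_ext k M hd fun c => ?_⟩
      rw [pr_dC, hb', hb]

variable {V₀ : C → X.Opens} (hV₀ : ∀ c i, V₀ c ≤ U c i)
  {W : C → Type*} [∀ c, AddCommGroup (W c)] [∀ c, Module k (W c)]
  (φ : ∀ c, M.presheaf.obj (op (V₀ c)) →ₗ[k] W c)

theorem pr_mem {p : ℕ} {f : Cochain (tot U) M.presheaf p} (hf : dk k (tot U) M p f = 0) (c : C) :
    dk k (U c) M p (pr k U M c p f) = 0 := by
  refine (pr_dC k U M c p f).symm.trans ?_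
  have h : dC (tot U) M.presheaf p f = 0 := hf
  rw [h, map_zero]

/-- The cocycle at one component. -/
noncomputable def prZ (c : C) (p : ℕ) :
    LinearMap.ker (dk k (tot U) M p) →ₗ[k] LinearMap.ker (dk k (U c) M p) where
  toFun f := ⟨pr k U M c p f.1, pr_mem k M f.2 c⟩
  map_add' _ _ := rfl
  map_smul' _ _ := rfl

/-- The classes in the lattice cohomologies. -/
noncomputable def totHc (p : ℕ) : LinearMap.ker (dk k (tot U) M p) →ₗ[k]
    ∀ c, Hc (Nl k (U c) (hV₀ c) M (φ c)) p :=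
  LinearMap.pi fun c => (toHc k (U c) (hV₀ c) M (φ c) p).comp (prZ k M c p)

variable (hinj : ∀ c (p : ℕ) (i : Fin (p + 1) → ι c),
  Function.Injective (rho k M (φ c) (le_iInf_U (U c) (hV₀ c) i)))

theorem exists_prZ (hd : Disj U) {p : ℕ} (f : ∀ c, LinearMap.ker (dk k (U c) M p)) :
    ∃ g : LinearMap.ker (dk k (tot U) M p), ∀ c, prZ k M c p g = f c := by
  obtain ⟨g, hg⟩ := exists_pr k M fun c => (f c).1
  refine ⟨⟨g, ?_⟩, fun c => Subtype.ext (hg c)⟩
  change dC (tot U) M.presheaf p g = 0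
  refine pr_ext k M hd fun c => ?_
  rw [pr_dC, hg, map_zero]
  exact (f c).2

include hinj in
theorem totHc_surjective (hd : Disj U) (p : ℕ) : Function.Surjective (totHc k M hV₀ φ p) := by
  intro x
  have h1 : ∀ c, ∃ z, toHc k (U c) (hV₀ c) M (φ c) p z = x c := fun c =>
    toHc_surjective k (U c) (hV₀ c) M (φ c) (hinj c) p (x c)
  choose z hz using h1
  obtain ⟨g, hg⟩ := exists_prZ k M hd z
  refine ⟨g, funext fun c => ?_⟩
  rw [← hz c, ← hg c]
  rfl

include hinj in
theorem totHc_eq_zero_iff (hd : Disj U) (p : ℕ) (f : LinearMap.ker (dk k (tot U) M p)) :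
    totHc k M hV₀ φ p f = 0 ↔ IsB (tot U) M.presheaf p f.1 := by
  rw [isB_iff k M hd, funext_iff]
  refine forall_congr' fun c => ?_
  exact toHc_eq_zero_iff k (U c) (hV₀ c) M (φ c) (hinj c) p (prZ k M c p f)

include hinj in
/-- **The comparison.** -/
theorem exists_equiv (hd : Disj U) (hU : ⨆ i, tot U i = ⊤) (hM : AcycM (tot U) M) (p : ℕ) :
    Nonempty (Coh.HH X M p ≃ₗ[k] ∀ c, Hc (Nl k (U c) (hV₀ c) M (φ c)) p) := by
  have h : ∀ f : LinearMap.ker (dk k (tot U) M p),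
      clsH k (tot U) M hU hM p f = 0 ↔ totHc k M hV₀ φ p f = 0 := fun f =>
    (clsH_eq_zero_iff k (tot U) M hU hM p f).trans
      (totHc_eq_zero_iff k M hV₀ φ hinj hd p f).symm
  let i1 : AddCommGroup (∀ c, Hc (Nl k (U c) (hV₀ c) M (φ c)) p) := Pi.addCommGroup
  let i2 : Module k (∀ c, Hc (Nl k (U c) (hV₀ c) M (φ c)) p) := Pi.module _ _ _
  obtain ⟨E, -⟩ := exists_equiv_of_surj (H' := ∀ c, Hc (Nl k (U c) (hV₀ c) M (φ c)) p) k
    (clsH k (tot U) M hU hM p) (clsH_surjective k (tot U) M hU hM p) (clsH_smul k (tot U) M hU hM p)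
    (totHc k M hV₀ φ p) (totHc_surjective k M hV₀ φ hinj hd p) h
  exact ⟨E⟩

include hinj in
/-- The components are finite if the total is. -/
theorem finite_comp (hd : Disj U) (hU : ⨆ i, tot U i = ⊤) (hM : AcycM (tot U) M) (p : ℕ)
    (h : Module.Finite k (Coh.HH X M p)) (c : C) : Module.Finite k (Hc (Nl k (U c) (hV₀ c) M (φ c)) p) := by
  obtain ⟨E⟩ := exists_equiv k M hV₀ φ hinj hd hU hM p
  exact Module.Finite.of_surjective ((LinearMap.proj c).comp E.toLinearMap)
    ((Function.surjective_eval c).comp E.surjective)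

include hinj in
theorem finrank_eq [Fintype C] (hd : Disj U) (hU : ⨆ i, tot U i = ⊤) (hM : AcycM (tot U) M) (p : ℕ)
    (h : Module.Finite k (Coh.HH X M p)) :
    Module.finrank k (Coh.HH X M p) =
      ∑ c, Module.finrank k (Hc (Nl k (U c) (hV₀ c) M (φ c)) p) := by
  obtain ⟨E⟩ := exists_equiv k M hV₀ φ hinj hd hU hM p
  have := fun c => finite_comp k M hV₀ φ hinj hd hU hM p h c
  have hf : ∀ c, Module.Free k (Hc (Nl k (U c) (hV₀ c) M (φ c)) p) := fun c =>
    Module.Free.of_divisionRing k _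
  rw [E.finrank_eq]
  exact Module.finrank_pi_fintype k

include hinj in
theorem finrank_le [Fintype C] (hd : Disj U) (hU : ⨆ i, tot U i = ⊤) (hM : AcycM (tot U) M) (p : ℕ) :
    Module.finrank k (Coh.HH X M p) ≤
      ∑ c, Module.finrank k (Hc (Nl k (U c) (hV₀ c) M (φ c)) p) := by
  by_cases h : Module.Finite k (Coh.HH X M p)
  · exact (finrank_eq k M hV₀ φ hinj hd hU hM p h).le
  · rw [Module.finrank_of_not_finite h]
    exact Nat.zero_le _

variable {M' : X.Modules} (φ' : ∀ c, M'.presheaf.obj (op (V₀ c)) →ₗ[k] W c) (α : M' ⟶ M)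
  (hα : ∀ c m, φ c (α.app (V₀ c) m) = φ' c m)

theorem pr_mapk (c : C) (p : ℕ) (f : Cochain (tot U) M'.presheaf p) :
    pr k U M c p (mapk k (tot U) α p f) = mapk k (U c) α p (pr k U M' c p f) := rfl

include hinj hα in
/-- **Surjectivity on cohomology from a statement on cocycles of lattices.** -/
theorem surjective_of_cocycles (hd : Disj U)
    (hinj' : ∀ c (p : ℕ) (i : Fin (p + 1) → ι c),
      Function.Injective (rho k M' (φ' c) (le_iInf_U (U c) (hV₀ c) i)))
    (hU : ⨆ i, tot U i = ⊤) (hM : AcycM (tot U) M) (hM' : AcycM (tot U) M') (p : ℕ)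
    (hsub : ∀ c, ∀ z ∈ Zc (Nl k (U c) (hV₀ c) M (φ c)) p,
      ∃ z' ∈ Zc (Nl k (U c) (hV₀ c) M' (φ' c)) p, z - z' ∈ Bc (Nl k (U c) (hV₀ c) M (φ c)) p) :
    Function.Surjective (Sheaf.H.map ((SheafOfModules.toSheaf X.ringCatSheaf).map α) p) := by
  intro x
  obtain ⟨z, rfl⟩ := clsH_surjective k (tot U) M hU hM p x
  have h1 : ∀ c, ∃ b : LinearMap.ker (dk k (U c) M' p),
      toSeq k (U c) (hV₀ c) M (φ c) p (prZ k M c p z).1 -
        toSeq k (U c) (hV₀ c) M' (φ' c) p b.1 ∈ Bc (Nl k (U c) (hV₀ c) M (φ c)) p := by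
    intro c
    obtain ⟨z', hz', hzz'⟩ := hsub c _ (toSeq_mem_Zc k (U c) (hV₀ c) M (φ c) (prZ k M c p z).2)
    obtain ⟨b, rfl⟩ := toSeq_surj k (U c) (hV₀ c) M' (φ' c) p hz'.1
    have hb : dk k (U c) M' p b = 0 := by
      apply toSeq_injective k (U c) (hV₀ c) M' (φ' c) (hinj' c) (p + 1)
      refine (toSeq_dC k (U c) (hV₀ c) M' (φ' c) p b).trans ?_
      rw [map_zero]
      exact hz'.2
    exact ⟨⟨b, hb⟩, hzz'⟩
  choose b hb using h1
  obtain ⟨g, hg⟩ := exists_prZ k M' hd b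
  refine ⟨clsH k (tot U) M' hU hM' p g, ?_⟩
  refine (clsH_map k (tot U) M' hU hM' hM p α g).trans ?_
  rw [← sub_eq_zero, ← map_sub, clsH_eq_zero_iff, isB_iff k M hd]
  intro c
  rw [← toSeq_mem_Bc_iff k (U c) (hV₀ c) M (φ c) (hinj c)]
  have e : toSeq k (U c) (hV₀ c) M (φ c) p (pr k U M c p (mapk k (tot U) α p g.1 - z.1)) =
      -(toSeq k (U c) (hV₀ c) M (φ c) p (prZ k M c p z).1 -
        toSeq k (U c) (hV₀ c) M' (φ' c) p (b c).1) := by
    rw [map_sub, pr_mapk, map_sub, toSeq_mapk k (U c) (hV₀ c) (φ c) (φ' c) α (hα c), ← hg c]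
    change _ - toSeq k (U c) (hV₀ c) M (φ c) p (prZ k M c p z).1 = _
    change toSeq k (U c) (hV₀ c) M' (φ' c) p (prZ k M' c p g).1 - _ = _
    abel
  have h2 := Submodule.neg_mem _ (hb c)
  rw [← e] at h2
  exact h2

end K912.Fam
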