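import Groth.Agent.DelIll.K912.Asm
import Groth.Agent.DelIll.K912.Fam

/-!
# The main inequality for geometric data, one for each component

`G c` : geometric data over the components `c` of `X`.
-/

set_option autoImplicit false

universe u

open CategoryTheory CategoryTheory.Limits AlgebraicGeometry Opposite TopologicalSpace
open scoped TensorProduct
open Groth.Agent.Sga67.Sec Groth.Agent.Sga67.LocBasis Groth.Agent.Sga67.ExtSheaf
open Groth.Agent.Fga.MumCech
open K912.Alt K912.Twist K912.Frame K912.LatCmp K912.Fam K912.Num K912.Dim K912.Seq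

namespace K912.Asm

attribute [local instance] algV modS modP

variable {p : ℕ} {k : Type u} [Field k] {X : Scheme.{u}} [X.Over (Spec (CommRingCat.of k))]
  {E : X.Modules} {n : ℕ} {C : Type u}

/-- The covers of the components. -/
abbrev UU (G : C → Geo p k X E n) (c : C) (i : (G c).ι) : X.Opens := ((G c).U i).1

/-- The geometric data cover `X` and are disjoint. -/
structure IsFam (G : C → Geo p k X E n) : Prop where
  disj : Disj (UU G)
  cov : ⨆ s, tot (UU G) s = ⊤

theorem IsFam.aff {G : C → Geo p k X E n} (hG : IsFam G) (s : Finset (Σ c, (G c).ι)) (hs : s.Nonempty) :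
    IsAffineOpen (⨅ i ∈ s, tot (UU G) i) := by
  obtain ⟨⟨c, i₀⟩, hi₀⟩ := hs
  by_cases h : ∀ i ∈ s, i.1 = c
  · have e : (⨅ i ∈ s, tot (UU G) i) = Us (fun i => ((G c).U i).1) {i | (⟨c, i⟩ : Σ c, (G c).ι) ∈ s} := by
      apply le_antisymm
      · exact le_iInf fun i => le_iInf fun hi => iInf_le_of_le ⟨c, i⟩ (iInf_le_of_le hi le_rfl)
      · refine le_iInf fun i => le_iInf fun hi => ?_
        obtain ⟨c', i⟩ := i
        have hc' : c' = c := h _ hi
        subst hc'
        exact iInf_le_of_le i (iInf_le_of_le hi le_rfl)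
    rw [e]
    exact (G c).aff _ ⟨i₀, hi₀⟩
  · push Not at h
    obtain ⟨i, hi, hic⟩ := h
    have e : (⨅ i ∈ s, tot (UU G) i) = ⊥ := by
      rw [eq_bot_iff, ← hG.disj i.1 c i.2 i₀ hic]
      exact le_inf (iInf_le_of_le i (iInf_le_of_le hi le_rfl))
        (iInf_le_of_le ⟨c, i₀⟩ (iInf_le_of_le hi₀ le_rfl))
    rw [e]
    exact isAffineOpen_bot X

theorem IsFam.acyc {G : C → Geo p k X E n} (hG : IsFam G) {N : X.Modules} (hN : Coh.IsQCoh N) :
    AcycM (tot (UU G)) N := acycM _ _ hG.aff hN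

variable {G : C → Geo p k X E n} {J : C → Type} [∀ c, Fintype (J c)] [∀ c, DecidableEq (J c)]
  {M M' M'' : X.Modules} {La : ℕ → X.Modules}
  (φ : ∀ a, Phi a E (La a)) (hφ : ∀ a, PhiComp (φ a))

/-- The realisation spaces. -/
@[reducible] noncomputable def grpW (G : C → Geo p k X E n) (J : C → Type) (c : C) :
    AddCommGroup (J c → ExteriorAlgebra Γ(X, (G c).V₀.1) (Sec E (G c).V₀.1)) := inferInstance

/-- The realisation spaces. -/
@[reducible] noncomputable def modW (G : C → Geo p k X E n) (J : C → Type) (c : C) :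
    Module k (J c → ExteriorAlgebra Γ(X, (G c).V₀.1) (Sec E (G c).V₀.1)) := inferInstance

attribute [local instance] grpW modW

theorem finite_fam (hG : IsFam G) (T : ∀ c, Frames (G c) (J c) M) (a q : ℕ)
    (hN : Coh.IsQCoh (CohB1.tensorMod (La a) M))
    (h : Module.Finite k (Coh.HH X (CohB1.tensorMod (La a) M) q)) (c : C) :
    Module.Finite k (Hc (latN φ hφ (T c) a) q) :=
  finite_comp k (CohB1.tensorMod (La a) M) (fun c => (G c).le)
    (fun c => phik (φ a) (G c).V₀ (T c).μ (tau_bij φ hφ (T c) a) k)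
    (fun c => rho_injective φ hφ (T c) a) hG.disj hG.cov (hG.acyc hN) q h c

variable [Fintype C]

theorem finrank_fam (hG : IsFam G) (T : ∀ c, Frames (G c) (J c) M) (a q : ℕ)
    (hN : Coh.IsQCoh (CohB1.tensorMod (La a) M))
    (h : Module.Finite k (Coh.HH X (CohB1.tensorMod (La a) M) q)) :
    Module.finrank k (Coh.HH X (CohB1.tensorMod (La a) M) q) =
      ∑ c, Module.finrank k (Hc (latN φ hφ (T c) a) q) :=
  Fam.finrank_eq k (CohB1.tensorMod (La a) M) (fun c => (G c).le)
    (fun c => phik (φ a) (G c).V₀ (T c).μ (tau_bij φ hφ (T c) a) k)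
    (fun c => rho_injective φ hφ (T c) a) hG.disj hG.cov (hG.acyc hN) q h

theorem finrank_fam_le (hG : IsFam G) (T : ∀ c, Frames (G c) (J c) M) (a q : ℕ)
    (hN : Coh.IsQCoh (CohB1.tensorMod (La a) M)) :
    Module.finrank k (Coh.HH X (CohB1.tensorMod (La a) M) q) ≤
      ∑ c, Module.finrank k (Hc (latN φ hφ (T c) a) q) :=
  finrank_le k (CohB1.tensorMod (La a) M) (fun c => (G c).le)
    (fun c => phik (φ a) (G c).V₀ (T c).μ (tau_bij φ hφ (T c) a) k)
    (fun c => rho_injective φ hφ (T c) a) hG.disj hG.cov (hG.acyc hN) q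

variable [Fact p.Prime] [CharP k p] {P P'' : ∀ c, Pole (G c)}

omit [Fintype C] in
include hφ in
theorem ineq_comp (hG : IsFam G) (hk : ∀ t : k, ∃ u : k, u ^ p = t) (hC : ∀ c, Cartier (P c))
    {T : ∀ c, Frames (G c) (J c) M} {T' : ∀ c, Frames (G c) (J c) M'}
    (hT : ∀ c, IsTw (P c) (T c) (T' c))
    (hq' : ∀ a, Coh.IsQCoh (CohB1.tensorMod (La a) M'))
    (hfin : ∀ a b, Module.Finite k (Coh.HH X (CohB1.tensorMod (La a) M') b)) (m : ℕ) (hm : m < p)
    (c : C) :
    ∑ a ∈ Finset.range (m + 1), Module.finrank k (Hc (latN φ hφ (T c) a) (m - a)) ≤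
      ∑ a ∈ Finset.range (m + 1), Module.finrank k (Hc (latN φ hφ (T' c) a) (m - a)) := by
  have := (G c).charP
  exact sum_finrank_le (hyp φ hφ hk (hC c) (hT c)) (Fact.out (p := p.Prime)).ne_zero hk
    (fun t g => ψJ_smul (G c).D t g) m (fun a ha => surj φ hφ hk (hC c) (hT c) a (by omega))
    (fun a ha => inj φ hφ hk (hC c) (hT c) a (by omega))
    (fun a _ => finite_fam φ hφ hG T' a (m - a) (hq' a) (hfin a _) c)

include hφ in
/-- **The main inequality.** -/
theorem main_ineq_fam (hG : IsFam G) (hk : ∀ t : k, ∃ u : k, u ^ p = t) (hC : ∀ c, Cartier (P c))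
    {T : ∀ c, Frames (G c) (J c) M} {T' : ∀ c, Frames (G c) (J c) M'}
    (hT : ∀ c, IsTw (P c) (T c) (T' c)) (hq : ∀ a, Coh.IsQCoh (CohB1.tensorMod (La a) M))
    (hq' : ∀ a, Coh.IsQCoh (CohB1.tensorMod (La a) M'))
    (hfin : ∀ a b, Module.Finite k (Coh.HH X (CohB1.tensorMod (La a) M') b)) (m : ℕ) (hm : m < p) :
    ∑ a ∈ Finset.range (m + 1), Module.finrank k (Coh.HH X (CohB1.tensorMod (La a) M) (m - a)) ≤
      ∑ a ∈ Finset.range (m + 1), Module.finrank k (Coh.HH X (CohB1.tensorMod (La a) M') (m - a)) := by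
  refine le_trans (Finset.sum_le_sum fun a _ => finrank_fam_le φ hφ hG T a (m - a) (hq a)) ?_
  refine le_trans ?_ (le_of_eq (Finset.sum_congr rfl fun a _ =>
    (finrank_fam φ hφ hG T' a (m - a) (hq' a) (hfin a _)).symm))
  rw [Finset.sum_comm, Finset.sum_comm (s := Finset.range (m + 1)) (t := Finset.univ)]
  exact Finset.sum_le_sum fun c _ => ineq_comp φ hφ hG hk hC hT hq' hfin m hm c

omit [Fact p.Prime] [CharP k p] in
/-- Compatibility of the realisations with a morphism of modules. -/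
theorem phik_tmap {G : Geo p k X E n} {J : Type} [Fintype J] [DecidableEq J] (T' : Frames G J M')
    (T'' : Frames G J M'') (α : M'' ⟶ M')
    (hα : ∀ m, T'.μ (appS α G.V₀.1 m) = T''.μ m) (a : ℕ)
    (x : (CohB1.tensorMod (La a) M'').presheaf.obj (op G.V₀.1)) :
    phik (φ a) G.V₀ T'.μ (tau_bij φ hφ T' a) k ((tmap (La a) α).app G.V₀.1 x) =
      phik (φ a) G.V₀ T''.μ (tau_bij φ hφ T'' a) k x := by
  obtain ⟨t, rfl⟩ := (tau_bij φ hφ T'' a).2 x
  change phi (φ a) G.V₀ T'.μ (tau_bij φ hφ T' a) (appS (tmap (La a) α) G.V₀.1 (tau (La a) M'' G.V₀.1 t)) =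
    phi (φ a) G.V₀ T''.μ (tau_bij φ hφ T'' a) (tau (La a) M'' G.V₀.1 t)
  rw [appS_tmap]
  induction t using TensorProduct.induction_on with
  | zero => rw [map_zero, map_zero, map_zero, map_zero, map_zero]
  | add s t hs ht => rw [map_add, map_add, map_add, map_add, map_add, hs, ht]
  | tmul l m =>
    funext j
    rw [TensorProduct.map_tmul, phi_tau, phi_tau, hα]
    rfl

omit [Fact p.Prime] [CharP k p] in
/-- Equality of two sums of natural numbers from a termwise inequality. -/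
theorem eq_of_sum_le {f g : C → ℕ} (h : ∀ c, f c ≤ g c) (h' : ∑ c, g c ≤ ∑ c, f c) (c : C) :
    g c ≤ f c := by
  by_contra hc
  push Not at hc
  exact absurd h' (not_le.2 (Finset.sum_lt_sum (fun c _ => h c) ⟨c, Finset.mem_univ c, hc⟩))

include φ hφ in
/-- **Surjectivity from equality.** -/
theorem surjective_of_eq_fam (hG : IsFam G) (hk : ∀ t : k, ∃ u : k, u ^ p = t)
    (hC : ∀ c, Cartier (P c)) (hC'' : ∀ c, Cartier (P'' c))
    {T : ∀ c, Frames (G c) (J c) M} {T' : ∀ c, Frames (G c) (J c) M'}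
    {T'' : ∀ c, Frames (G c) (J c) M''} (hT : ∀ c, IsTw (P c) (T c) (T' c))
    (hT'' : ∀ c, IsTw (P'' c) (T c) (T'' c)) (α : M'' ⟶ M')
    (hα : ∀ c m, (T' c).μ (appS α (G c).V₀.1 m) = (T'' c).μ m)
    (hq : ∀ a, Coh.IsQCoh (CohB1.tensorMod (La a) M))
    (hq' : ∀ a, Coh.IsQCoh (CohB1.tensorMod (La a) M'))
    (hq'' : Coh.IsQCoh (CohB1.tensorMod (La 0) M''))
    (hfin : ∀ a b, Module.Finite k (Coh.HH X (CohB1.tensorMod (La a) M') b)) (m : ℕ) (hm : m < p)
    (heq : ∑ a ∈ Finset.range (m + 1), Module.finrank k (Coh.HH X (CohB1.tensorMod (La a) M') (m - a)) ≤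
      ∑ a ∈ Finset.range (m + 1), Module.finrank k (Coh.HH X (CohB1.tensorMod (La a) M) (m - a))) :
    Function.Surjective (Sheaf.H.map ((SheafOfModules.toSheaf X.ringCatSheaf).map (tmap (La 0) α)) m) := by
  have heq' : ∀ c, ∑ a ∈ Finset.range (m + 1), Module.finrank k (Hc (latN φ hφ (T' c) a) (m - a)) ≤
      ∑ a ∈ Finset.range (m + 1), Module.finrank k (Hc (latN φ hφ (T c) a) (m - a)) := by
    refine eq_of_sum_le (fun c => ineq_comp φ hφ hG hk hC hT hq' hfin m hm c) ?_
    rw [Finset.sum_comm, Finset.sum_comm (s := Finset.univ)]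
    refine le_trans (le_of_eq ?_) (heq.trans ?_)
    · exact Finset.sum_congr rfl fun a _ => (finrank_fam φ hφ hG T' a (m - a) (hq' a) (hfin a _)).symm
    · exact Finset.sum_le_sum fun a _ => finrank_fam_le φ hφ hG T a (m - a) (hq a)
  refine surjective_of_cocycles k (CohB1.tensorMod (La 0) M') (fun c => (G c).le)
    (fun c => phik (φ 0) (G c).V₀ (T' c).μ (tau_bij φ hφ (T' c) 0) k)
    (fun c => rho_injective φ hφ (T' c) 0)
    (fun c => phik (φ 0) (G c).V₀ (T'' c).μ (tau_bij φ hφ (T'' c) 0) k)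
    (tmap (La 0) α) (fun c => phik_tmap φ hφ (T' c) (T'' c) α (hα c) 0) hG.disj
    (fun c => rho_injective φ hφ (T'' c) 0) hG.cov (hG.acyc (hq' 0)) (hG.acyc hq'') m
    (fun c z hz => ?_)
  have := (G c).charP
  exact exists_cocycle_sub (hyp φ hφ hk (hC c) (hT c)) (Fact.out (p := p.Prime)).ne_zero hk
    (fun t g => ψJ_smul (G c).D t g) m (fun a ha => surj φ hφ hk (hC c) (hT c) a (by omega))
    (fun a ha => inj φ hφ hk (hC c) (hT c) a (by omega))
    (fun a _ => finite_fam φ hφ hG T' a (m - a) (hq' a) (hfin a _) c) (heq' c)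
    (hyp φ hφ hk (hC'' c) (hT'' c)) hz

end K912.Asm
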