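import Groth.Agent.DelIll.K912.Alt
import Mathlib.Algebra.Algebra.Subalgebra.Basic
import Mathlib.LinearAlgebra.Span.Basic

/-!
# Properties of the Deligne-Illusie map
-/

set_option autoImplicit false

namespace K912.Alt

open K912.Seq K912.Cx K912.Op
open scoped Nat

variable {p : ℕ} {ι R L : Type*} [CommRing R] [AddCommGroup L] [Module R L] (X : Dat p ι R L)

theorem D_pow_smul (b : R) (x : T ι (ExteriorAlgebra R L)) :
    D X.d (b ^ p • x) = b ^ p • D X.d x := D_smul X.d _ (X.d_pow b) x

variable [Fact p.Prime] [CharP R p]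

/-- The Deligne-Illusie map as an additive map. -/
noncomputable def Ψ : ExteriorAlgebra R L →+ T ι (ExteriorAlgebra R L) where
  toFun g := un (psi X g)
  map_zero' := map_zero (psi X)
  map_add' g g' := map_add (psi X) g g'

theorem Ψ_smul (b : R) (g : ExteriorAlgebra R L) : Ψ X (b • g) = b ^ p • Ψ X g :=
  map_smul (psi X) b g

theorem Ψ_ιMulti (a : ℕ) (v : Fin a → L) : Ψ X (ExteriorAlgebra.ιMulti R a v) =
    ∑ σ : Equiv.Perm (Fin a), Equiv.Perm.sign σ • prodL X (fun j => v (σ j)) := by
  change un (psi X _) = _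
  rw [psi_ιMulti, psiA_apply]
  rfl

theorem Ψ_ιMulti_apply (a : ℕ) (v : Fin a → L) (n : ℕ) (i : ℕ → ι) :
    Ψ X (ExteriorAlgebra.ιMulti R a v) n i =
    ∑ σ : Equiv.Perm (Fin a), Equiv.Perm.sign σ • prodL X (fun j => v (σ j)) n i := by
  rw [Ψ_ιMulti, Finset.sum_apply, Finset.sum_apply]
  rfl

theorem D_Ψ (g : ExteriorAlgebra R L) : D X.d (Ψ X g) = 0 := by
  have hg : g ∈ Submodule.span R
      (Set.range fun x : Σ n, (Fin n → L) => ExteriorAlgebra.ιMulti R x.1 x.2) := by
    rw [ExteriorAlgebra.ιMulti_span]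
    trivial
  induction hg using Submodule.span_induction with
  | mem x hx =>
    obtain ⟨⟨a, v⟩, rfl⟩ := hx
    dsimp only
    rw [Ψ_ιMulti, D_sum]
    refine Finset.sum_eq_zero fun σ _ => ?_
    rcases Int.units_eq_one_or (Equiv.Perm.sign σ) with h | h
    · rw [h, one_smul, D_prodL]
    · rw [h, Units.neg_smul, one_smul, D_neg, D_prodL, neg_zero]
  | zero => rw [map_zero, D_zero]
  | add x y _ _ hx hy => rw [map_add, D_add, hx, hy, add_zero]
  | smul b x _ hx => rw [Ψ_smul, D_pow_smul, hx, smul_zero]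

theorem dep_Ψ (g : ExteriorAlgebra R L) (n : ℕ) : Dep n (Ψ X g n) := by
  have hg : g ∈ Submodule.span R
      (Set.range fun x : Σ n, (Fin n → L) => ExteriorAlgebra.ιMulti R x.1 x.2) := by
    rw [ExteriorAlgebra.ιMulti_span]
    trivial
  induction hg using Submodule.span_induction with
  | mem x hx =>
    obtain ⟨⟨a, v⟩, rfl⟩ := hx
    intro i i' hi
    dsimp only
    rw [Ψ_ιMulti_apply, Ψ_ιMulti_apply]
    refine Finset.sum_congr rfl fun σ _ => ?_
    rw [dep_prodL X _ n i i' hi]
  | zero =>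
    rw [map_zero]
    exact fun _ _ _ => rfl
  | add x y _ _ hx hy =>
    intro i i' hi
    rw [map_add]
    change Ψ X x n i + Ψ X y n i = Ψ X x n i' + Ψ X y n i'
    rw [hx i i' hi, hy i i' hi]
  | smul b x _ hx =>
    intro i i' hi
    rw [Ψ_smul]
    change b ^ p • Ψ X x n i = b ^ p • Ψ X x n i'
    rw [hx i i' hi]

/-- The value in Čech degree `0` is `a!` times the ring homomorphism induced by `f i`. -/
theorem Ψ_apply_zero (F : ι → ExteriorAlgebra R L →+* ExteriorAlgebra R L)
    (hF : ∀ i b, F i (algebraMap R _ b) = algebraMap R _ (b ^ p))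
    (hFι : ∀ i w, F i (ExteriorAlgebra.ι R w) = ExteriorAlgebra.ι R (X.f i w)) (a : ℕ)
    {g : ExteriorAlgebra R L} (hg : g ∈ ⋀[R]^a L) (i : ℕ → ι) : Ψ X g 0 i = a ! • F (i 0) g := by
  have hg' : g ∈ Submodule.span R (Set.range (ExteriorAlgebra.ιMulti R a (M := L))) := by
    rwa [ExteriorAlgebra.ιMulti_span_fixedDegree]
  have hFM : ∀ v : Fin a → L, F (i 0) (ExteriorAlgebra.ιMulti R a v) =
      ExteriorAlgebra.ιMulti R a (fun j => X.f (i 0) (v j)) := by
    intro v
    rw [ExteriorAlgebra.ιMulti_apply, ExteriorAlgebra.ιMulti_apply, map_list_prod, List.map_ofFn]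
    congr 2
    funext j
    exact hFι _ _
  induction hg' using Submodule.span_induction with
  | mem x hx =>
    obtain ⟨v, rfl⟩ := hx
    rw [Ψ_ιMulti_apply, hFM]
    have h1 : ∀ σ : Equiv.Perm (Fin a), Equiv.Perm.sign σ • prodL X (fun j => v (σ j)) 0 i =
        ExteriorAlgebra.ιMulti R a (fun j => X.f (i 0) (v j)) := by
      intro σ
      rw [prodL_apply_zero]
      have h2 := AlternatingMap.map_perm (ExteriorAlgebra.ιMulti R a (M := L))
        (fun j => X.f (i 0) (v j)) σ
      change ExteriorAlgebra.ιMulti R a (fun j => X.f (i 0) (v (σ j))) = _ at h2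
      rw [h2, smul_smul, Int.units_mul_self, one_smul]
    rw [Finset.sum_congr rfl fun σ _ => h1 σ, Finset.sum_const, Finset.card_univ, Fintype.card_perm,
      Fintype.card_fin]
  | zero =>
    rw [map_zero, map_zero, smul_zero]
    rfl
  | add x y hx hy ihx ihy =>
    rw [ExteriorAlgebra.ιMulti_span_fixedDegree] at hx hy
    rw [map_add, map_add, smul_add, ← ihx hx, ← ihy hy]
    rfl
  | smul b x hx ih =>
    rw [ExteriorAlgebra.ιMulti_span_fixedDegree] at hx
    rw [Ψ_smul]
    change b ^ p • Ψ X x 0 i = _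
    rw [ih hx, Algebra.smul_def b x, map_mul, hF, ← Algebra.smul_def, smul_comm]

section Lat

variable {k : Type*} [Field k] [Algebra k R] [Module k L] [IsScalarTower k R L]

/-- The lattice of `a`-forms with coefficients in `Q` on elements of `N`. -/
def lat (Q : Submodule k R) (N : Submodule k L) (a : ℕ) : Submodule k (ExteriorAlgebra R L) :=
  Submodule.span k {x | ∃ q ∈ Q, ∃ w : Fin a → L, (∀ j, w j ∈ N) ∧ q • ExteriorAlgebra.ιMulti R a w = x}

/-- The same with degrees in `ℤ`. -/
def latZ (Q : Submodule k R) (N : Submodule k L) : ℤ → Submodule k (ExteriorAlgebra R L)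
  | Int.ofNat a => lat Q N a
  | Int.negSucc _ => ⊥

theorem latZ_natCast (Q : Submodule k R) (N : Submodule k L) (a : ℕ) : latZ Q N (a : ℤ) = lat Q N a :=
  rfl

theorem latZ_neg (Q : Submodule k R) (N : Submodule k L) {a : ℤ} (ha : a < 0) : latZ Q N a = ⊥ := by
  cases a with
  | ofNat a => exact absurd ha (by simp)
  | negSucc a => rfl

theorem smul_ιMulti_mem {Q : Submodule k R} {N : Submodule k L} {a : ℕ} {q : R} (hq : q ∈ Q)
    {w : Fin a → L} (hw : ∀ j, w j ∈ N) : q • ExteriorAlgebra.ιMulti R a w ∈ lat Q N a :=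
  Submodule.subset_span ⟨q, hq, w, hw, rfl⟩

theorem lat_mono {Q Q' : Submodule k R} {N N' : Submodule k L} (hQ : Q ≤ Q') (hN : N ≤ N') (a : ℕ) :
    lat Q N a ≤ lat Q' N' a :=
  Submodule.span_mono fun _ ⟨q, hq, w, hw, h⟩ => ⟨q, hQ hq, w, fun j => hN (hw j), h⟩

theorem latZ_mono {Q Q' : Submodule k R} {N N' : Submodule k L} (hQ : Q ≤ Q') (hN : N ≤ N') (a : ℤ) :
    latZ Q N a ≤ latZ Q' N' a := by
  cases a with
  | ofNat a => exact lat_mono hQ hN a
  | negSucc a => exact le_rfl

theorem lat_le_exteriorPower (Q : Submodule k R) (N : Submodule k L) (a : ℕ)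
    {x : ExteriorAlgebra R L} (hx : x ∈ lat Q N a) : x ∈ ⋀[R]^a L := by
  induction hx using Submodule.span_induction with
  | mem x hx =>
    obtain ⟨q, -, w, -, rfl⟩ := hx
    refine Submodule.smul_mem _ _ ?_
    rw [← exteriorPower.ιMulti_apply_coe]
    exact Subtype.property _
  | zero => exact Submodule.zero_mem _
  | add x y _ _ hx hy => exact Submodule.add_mem _ hx hy
  | smul t x _ hx =>
    rw [← algebraMap_smul R t x]
    exact Submodule.smul_mem _ _ hx

theorem ι_mul_mem {Q : Submodule k R} {N : Submodule k L} {w : L} (hw : w ∈ N) (a : ℕ)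
    {x : ExteriorAlgebra R L} (hx : x ∈ lat Q N a) : ExteriorAlgebra.ι R w * x ∈ lat Q N (a + 1) := by
  induction hx using Submodule.span_induction with
  | mem x hx =>
    obtain ⟨q, hq, v, hv, rfl⟩ := hx
    rw [mul_smul_comm]
    have h : ExteriorAlgebra.ι R w * ExteriorAlgebra.ιMulti R a v =
        ExteriorAlgebra.ιMulti R (a + 1) (Fin.cons w v) := by
      rw [ExteriorAlgebra.ιMulti_apply, ExteriorAlgebra.ιMulti_apply, List.ofFn_succ, List.prod_cons]
      simp only [Fin.cons_zero, Fin.cons_succ]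
    rw [h]
    refine smul_ιMulti_mem hq fun j => ?_
    refine Fin.cases ?_ (fun j => ?_) j
    · exact hw
    · exact hv j
  | zero =>
    rw [mul_zero]
    exact Submodule.zero_mem _
  | add x y _ _ hx hy =>
    rw [mul_add]
    exact Submodule.add_mem _ hx hy
  | smul t x _ hx =>
    rw [mul_smul_comm]
    exact Submodule.smul_mem _ _ hx

theorem ι_mul_mem_Z {Q : Submodule k R} {N : Submodule k L} {w : L} (hw : w ∈ N) (a : ℤ)
    {x : ExteriorAlgebra R L} (hx : x ∈ latZ Q N a) :
    ExteriorAlgebra.ι R w * x ∈ latZ Q N (a + 1) := by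
  cases a with
  | ofNat a => exact ι_mul_mem hw a hx
  | negSucc a =>
    rw [(Submodule.mem_bot k).1 hx, mul_zero]
    exact Submodule.zero_mem _

theorem smul_mem_lat {Q Q' : Submodule k R} {N : Submodule k L} {b : R} (hb : ∀ q ∈ Q, b * q ∈ Q')
    (a : ℕ) {x : ExteriorAlgebra R L} (hx : x ∈ lat Q N a) : b • x ∈ lat Q' N a := by
  induction hx using Submodule.span_induction with
  | mem x hx =>
    obtain ⟨q, hq, v, hv, rfl⟩ := hx
    rw [smul_smul]
    exact smul_ιMulti_mem (hb q hq) hv
  | zero =>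
    rw [smul_zero]
    exact Submodule.zero_mem _
  | add x y _ _ hx hy =>
    rw [smul_add]
    exact Submodule.add_mem _ hx hy
  | smul t x _ hx =>
    rw [smul_comm]
    exact Submodule.smul_mem _ _ hx

theorem smul_mem_latZ {Q Q' : Submodule k R} {N : Submodule k L} {b : R} (hb : ∀ q ∈ Q, b * q ∈ Q')
    (a : ℤ) {x : ExteriorAlgebra R L} (hx : x ∈ latZ Q N a) : b • x ∈ latZ Q' N a := by
  cases a with
  | ofNat a => exact smul_mem_lat hb a hx
  | negSucc a =>
    rw [(Submodule.mem_bot k).1 hx, smul_zero]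
    exact Submodule.zero_mem _

/-- The Deligne-Illusie map preserves the lattices. -/
theorem Ψ_mem (A : Subalgebra k R) (N : Submodule k L) (s : Set ι)
    (hf : ∀ i ∈ s, ∀ w ∈ N, X.f i w ∈ N) (hh : ∀ i ∈ s, ∀ j ∈ s, ∀ w ∈ N, X.h i j w ∈ A)
    (a : ℤ) {g : ExteriorAlgebra R L} (hg : g ∈ latZ (Subalgebra.toSubmodule A) N a) (n : ℕ)
    (i : ℕ → ι) (hi : rg n i ⊆ s) : Ψ X g n i ∈ latZ (Subalgebra.toSubmodule A) N (a - n) := by
  cases a with
  | negSucc a =>
    rw [(Submodule.mem_bot k).1 hg, map_zero]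
    exact Submodule.zero_mem _
  | ofNat a =>
    change g ∈ lat (Subalgebra.toSubmodule A) N a at hg
    induction hg using Submodule.span_induction with
    | mem x hx =>
      obtain ⟨q, hq, v, hv, rfl⟩ := hx
      rw [Ψ_smul]
      change q ^ p • Ψ X _ n i ∈ _
      refine smul_mem_latZ (Q := Subalgebra.toSubmodule A)
        (fun q' hq' => A.mul_mem (A.pow_mem hq p) hq') _ ?_
      rw [Ψ_ιMulti_apply]
      refine Submodule.sum_mem _ fun σ _ => ?_
      have h1 : prodL X (fun j => v (σ j)) n i ∈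
          (latZ (Subalgebra.toSubmodule A) N ((a : ℤ) - n)).toAddSubgroup := by
        refine prodL_mem X (s := s) (N := N)
          (Q := fun a => (latZ (Subalgebra.toSubmodule A) N a).toAddSubgroup) ?_ ?_ ?_ _
          (fun j => hv _) n i hi
        · have h2 : (1 : ExteriorAlgebra R L) = (1 : R) • ExteriorAlgebra.ιMulti R 0 (fun _ => (0 : L)) := by
            rw [one_smul, ExteriorAlgebra.ιMulti_apply, List.ofFn_zero, List.prod_nil]
          rw [h2]
          exact smul_ιMulti_mem (a := 0) (A.one_mem) (fun j => j.elim0)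
        · intro i hi w hw a x hx
          exact ι_mul_mem_Z (hf i hi w hw) a hx
        · intro i hi j hj w hw a x hx
          exact smul_mem_latZ (Q := Subalgebra.toSubmodule A)
            (fun q' hq' => A.mul_mem (hh i hi j hj w hw) hq') _ hx
      rcases Int.units_eq_one_or (Equiv.Perm.sign σ) with h | h
      · rw [h, one_smul]
        exact h1
      · rw [h, Units.neg_smul, one_smul]
        exact Submodule.neg_mem _ h1
    | zero =>
      rw [map_zero]
      exact Submodule.zero_mem _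
    | add x y _ _ hx hy =>
      rw [map_add]
      exact Submodule.add_mem _ hx hy
    | smul t x _ hx =>
      rw [← algebraMap_smul R t x, Ψ_smul]
      change algebraMap k R t ^ p • Ψ X x n i ∈ _
      rw [← map_pow, algebraMap_smul]
      exact Submodule.smul_mem _ _ hx

end Lat

end K912.Alt
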