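import Groth.Agent.DelIll.K912.Frame
import Mathlib.LinearAlgebra.Matrix.Basis

/-!
# The geometric input of the decomposition theorem

`Geo p k X E n`: a finite affine cover of `X` with local bases of `E` (logarithmic one-forms), an ambient small
affine open `V₀`, the Deligne-Illusie data over `V₀` and their compatibility with the lattices of sections over the
finite intersections.  `Pole G`: a divisor of poles together with the local Cartier isomorphism.
`Twist G P M M'`: frames of `M` and `M'` (`M'` = Frobenius pull-back of `M` with poles).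
-/

set_option autoImplicit false

universe u

open CategoryTheory CategoryTheory.Limits AlgebraicGeometry Opposite TopologicalSpace
open scoped TensorProduct
open Groth.Agent.Sga67.Sec Groth.Agent.Sga67.LocBasis Groth.Agent.Sga67.ExtSheaf
open Groth.Agent.Fga.MumCech
open K912.Alt K912.Twist K912.Frame K912.LatCmp

namespace K912.Asm

attribute [local instance] algV modS modP

/-- The geometric data. -/
structure Geo (p : ℕ) (k : Type u) [Field k] (X : Scheme.{u}) [X.Over (Spec (CommRingCat.of k))]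
    (E : X.Modules) (n : ℕ) where
  /-- the index set -/
  ι : Type u
  /-- the cover -/
  U : ι → X.affineOpens
  nonempty_ι : Nonempty ι
  aff : ∀ s : Set ι, s.Nonempty → IsAffineOpen (Us (fun i => (U i).1) s)
  /-- the ambient open -/
  V₀ : X.affineOpens
  le : ∀ i, V₀.1 ≤ (U i).1
  inj : ∀ s : Set ι, s.Nonempty → Function.Injective (resO X (le_Us (fun i => (U i).1) le s))
  charP : CharP Γ(X, V₀.1) p
  /-- local bases -/
  b : ∀ i, Fin n → Sec E (U i).1
  hb : ∀ i, IsLocBasis (b i)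
  /-- the Deligne-Illusie data -/
  D : Dat p ι Γ(X, V₀.1) (Sec E V₀.1)
  /-- the ring homomorphisms -/
  F : ι → ExteriorAlgebra Γ(X, V₀.1) (Sec E V₀.1) →+* ExteriorAlgebra Γ(X, V₀.1) (Sec E V₀.1)
  hF : ∀ (i : ι) (b : Γ(X, V₀.1)), F i (algebraMap Γ(X, V₀.1) _ b) = algebraMap Γ(X, V₀.1) _ (b ^ p)
  hFι : ∀ (i : ι) (w : Sec E V₀.1), F i (ExteriorAlgebra.ι Γ(X, V₀.1) w) =
    ExteriorAlgebra.ι Γ(X, V₀.1) (D.f i w)
  f_mem : ∀ (s : Set ι), ∀ i ∈ s, ∀ w ∈ Nv k E (le_Us (fun i => (U i).1) le s),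
    D.f i w ∈ Nv k E (le_Us (fun i => (U i).1) le s)
  h_mem : ∀ (s : Set ι), ∀ i ∈ s, ∀ j ∈ s, ∀ w ∈ Nv k E (le_Us (fun i => (U i).1) le s),
    D.h i j w ∈ Av k (le_Us (fun i => (U i).1) le s)

variable {p : ℕ} {k : Type u} [Field k] {X : Scheme.{u}} [X.Over (Spec (CommRingCat.of k))]
  {E : X.Modules} {n : ℕ} (G : Geo p k X E n)

/-- The ambient ring. -/
abbrev Geo.R : Type u := Γ(X, G.V₀.1)

/-- The ambient module of one-forms. -/
abbrev Geo.L : Type u := Sec E G.V₀.1

/-- The functions on the finite intersection. -/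
noncomputable def Geo.As (s : Set G.ι) : Subalgebra k G.R := Av k (le_Us (fun i => (G.U i).1) G.le s)

/-- The one-forms on the finite intersection. -/
noncomputable def Geo.Ns (s : Set G.ι) : Submodule k G.L := Nv k E (le_Us (fun i => (G.U i).1) G.le s)

/-- A divisor of poles: `x i` is an equation over the chart `U i`, invertible over `V₀`. -/
structure Pole where
  /-- the equations -/
  x : G.ι → G.Rˣ
  x_mem : ∀ (s : Set G.ι), ∀ i ∈ s, (x i : G.R) ∈ G.As s
  x_div : ∀ (s : Set G.ι), ∀ i ∈ s, ∀ j ∈ s, (x i : G.R) * (x j)⁻¹.1 ∈ G.As s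

variable {G} (P : Pole G)

/-- The functions with poles. -/
noncomputable def Pole.Ps (s : Set G.ι) (i : G.ι) : Submodule k G.R where
  carrier := {r | (P.x i : G.R) * r ∈ G.As s}
  add_mem' {a b} ha hb := by
    have h := (G.As s).add_mem ha hb
    rw [← mul_add] at h
    exact h
  zero_mem' := by
    change (P.x i : G.R) * 0 ∈ G.As s
    rw [mul_zero]
    exact (G.As s).zero_mem
  smul_mem' t a ha := by
    change (P.x i : G.R) * (t • a) ∈ G.As s
    rw [mul_smul_comm]
    exact (G.As s).smul_mem ha t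

theorem Pole.mem_Ps (s : Set G.ι) (i : G.ι) {r : G.R} : r ∈ P.Ps s i ↔ (P.x i : G.R) * r ∈ G.As s :=
  Iff.rfl

theorem Pole.Ps_eq {s : Set G.ι} {i j : G.ι} (hi : i ∈ s) (hj : j ∈ s) : P.Ps s i = P.Ps s j := by
  have key : ∀ {i j : G.ι}, i ∈ s → j ∈ s → P.Ps s i ≤ P.Ps s j := by
    intro i j hi hj r hr
    have h := (G.As s).mul_mem (P.x_div s j hj i hi) hr
    have e : (P.x j : G.R) * (P.x i)⁻¹.1 * ((P.x i : G.R) * r) = (P.x j : G.R) * r := by
      rw [mul_assoc, ← mul_assoc (P.x i)⁻¹.1, Units.inv_mul, one_mul]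
    rw [e] at h
    exact h
  exact le_antisymm (key hi hj) (key hj hi)

theorem Pole.le_Ps {s : Set G.ι} {i : G.ι} (hi : i ∈ s) :
    Subalgebra.toSubmodule (G.As s) ≤ P.Ps s i := fun _ hr => (G.As s).mul_mem (P.x_mem s i hi) hr

/-- The local Cartier isomorphism with poles. -/
structure Cartier : Prop where
  d_mem : ∀ (s : Set G.ι), ∀ i ∈ s, ∀ a, ∀ y ∈ latZ (P.Ps s i) (G.Ns s) a,
    G.D.d y ∈ latZ (P.Ps s i) (G.Ns s) (a + 1)
  surj : ∀ (s : Set G.ι), ∀ i ∈ s, ∀ (a : ℕ), a < p → ∀ y ∈ lat (P.Ps s i) (G.Ns s) a, G.D.d y = 0 →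
    ∃ g ∈ lat (Subalgebra.toSubmodule (G.As s)) (G.Ns s) a,
      ∃ z ∈ latZ (P.Ps s i) (G.Ns s) ((a : ℤ) - 1), y = G.F i g + G.D.d z
  inj : ∀ (s : Set G.ι), ∀ i ∈ s, ∀ (a : ℕ), a < p →
    ∀ g ∈ lat (Subalgebra.toSubmodule (G.As s)) (G.Ns s) a,
    ∀ z ∈ latZ (P.Ps s i) (G.Ns s) ((a : ℤ) - 1), G.F i g = G.D.d z → g = 0

/-- Frames of a module over the charts, trivialised over `V₀`. -/
structure Frames (G : Geo p k X E n) (J : Type) [Fintype J] (M : X.Modules) where
  /-- the frames -/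
  m : ∀ i, J → Sec M (G.U i).1
  hm : ∀ i, IsLocBasis (m i)
  /-- the trivialisation -/
  μ : Sec M G.V₀.1 ≃ₗ[G.R] (J → G.R)

variable {J : Type} [Fintype J] {M M' : X.Modules}

/-- The matrix of the frame. -/
noncomputable def Frames.C (T : Frames G J M) (i : G.ι) : Matrix J J G.R :=
  fun j c => T.μ (res M (G.le i) (T.m i c)) j

/-- `M'` is the Frobenius twist of `M` with poles along `P`. -/
def IsTw (P : Pole G) (T : Frames G J M) (T' : Frames G J M') : Prop :=
  ∀ i j c, T'.C i j c = (P.x i)⁻¹.1 * T.C i j c ^ p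

theorem Frames.exists_inv [DecidableEq J] (T : Frames G J M) (i : G.ι) :
    ∃ C' : Matrix J J G.R, T.C i * C' = 1 ∧ C' * T.C i = 1 := by
  let β : Module.Basis J G.R (J → G.R) := ((T.hm i).basis (G.le i)).map T.μ
  have h : T.C i = (Pi.basisFun G.R J).toMatrix β := by
    funext j c
    rw [Module.Basis.toMatrix_apply, Module.Basis.map_apply, IsLocBasis.basis_apply, Pi.basisFun_repr]
    rfl
  rw [h]
  exact ⟨β.toMatrix (Pi.basisFun G.R J), Module.Basis.toMatrix_mul_toMatrix_flip _ _,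
    Module.Basis.toMatrix_mul_toMatrix_flip _ _⟩

/-- The system with integral degrees. -/
def sysZ {W ι : Type*} [AddCommGroup W] [Module k W] (N : ℕ → Set ι → Submodule k W) :
    ℤ → Set ι → Submodule k W
  | Int.ofNat a => N a
  | Int.negSucc _ => fun _ => ⊥

end K912.Asm
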