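import Groth.Agent.DelIll.K912.Dim
import Mathlib.LinearAlgebra.Dimension.Finrank

/-!
# The numerical consequences of the decomposition

`ψ : 𝔾 →+ T ι W` is `p`-semilinear and induces local bijections on cohomology.  Then the sum of the dimensions of
the Čech cohomologies of the lattices `G a` is at most the corresponding sum for `K a`; if equality holds, every
Čech class of `K 0` lifts to a class of the total complex; and if `ψ` takes values in a subsystem `K'` of `K`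
then every Čech class of `K 0` comes from `K' 0`.
-/

set_option autoImplicit false

namespace K912.Num

open K912.Seq K912.Cx K912.Stair K912.Dim

/-- Comparison of dimensions along an injective `p`-semilinear map over a field closed under `p`-th roots. -/
theorem finite_and_finrank_le {k V V' : Type*} [Field k] [AddCommGroup V] [Module k V] [AddCommGroup V']
    [Module k V'] {p : ℕ} (hp : p ≠ 0) (hk : ∀ t : k, ∃ u : k, u ^ p = t) (j : V →+ V')
    (hj : Function.Injective j) (hc : ∀ (t : k) (x : V), j (t • x) = t ^ p • j x)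
    [Module.Finite k V'] : Module.Finite k V ∧ Module.finrank k V ≤ Module.finrank k V' := by
  choose i hi using hk
  have h := lift_rank_le_of_injective_injective i j (fun t ht => by rw [← hi t, ht, zero_pow hp]) hj
    (fun t x => by rw [hc, hi])
  have h' : Module.rank k V' < Cardinal.aleph0 := Module.rank_lt_aleph0 k V'
  refine ⟨?_, Module.finrank_le_finrank_of_rank_le_rank h h'⟩
  rw [← Module.rank_lt_aleph0_iff]
  exact Cardinal.lift_lt_aleph0.1 (h.trans_lt (Cardinal.lift_lt_aleph0.2 h'))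

theorem finite_and_sum_finrank_le {k V' : Type*} [Field k] [AddCommGroup V']
    [Module k V'] {p : ℕ} (hp : p ≠ 0) (hk : ∀ t : k, ∃ u : k, u ^ p = t) {n : ℕ} (E : Fin n → Type*)
    [∀ q, AddCommGroup (E q)] [∀ q, Module k (E q)] (j : (∀ q, E q) →+ V')
    (hj : Function.Injective j) (hc : ∀ (t : k) (x : ∀ q, E q), j (fun q => t • x q) = t ^ p • j x)
    [Module.Finite k V'] : (∀ q, Module.Finite k (E q)) ∧
      ∑ q, Module.finrank k (E q) ≤ Module.finrank k V' := by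
  obtain ⟨h1, h2⟩ := finite_and_finrank_le hp hk j hj hc
  have h3 : ∀ q, Module.Finite k (E q) := fun q =>
    Module.Finite.of_surjective (LinearMap.proj (R := k) (φ := E) q) (LinearMap.proj_surjective q)
  refine ⟨h3, ?_⟩
  rwa [Module.finrank_pi_fintype] at h2

variable {k W ι : Type*} [Field k] [AddCommGroup W] [Module k W]

variable {𝔾 : Type*} [AddCommGroup 𝔾] [Module k 𝔾] {G : ℤ → Set ι → Submodule k 𝔾}
  {ψ : 𝔾 →+ T ι W} {d : W →ₗ[k] W} {K : ℤ → Set ι → Submodule k W}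

theorem sum_reindex (m : ℕ) (f : ℤ → ℕ → ℕ) :
    ∑ q : Fin (m + 1), f ((m : ℤ) - (q : ℕ)) q = ∑ a ∈ Finset.range (m + 1), f (a : ℤ) (m - a) := by
  rw [Fin.sum_univ_eq_sum_range (fun q => f ((m : ℤ) - q) q), ← Finset.sum_range_reflect]
  refine Finset.sum_congr rfl fun a ha => ?_
  have ha' : a ≤ m := by have := Finset.mem_range.1 ha; omega
  have e : m + 1 - 1 - a = m - a := by omega
  rw [e, Nat.cast_sub ha']
  congr 1
  ring

/-- The dimension of the total cohomology bounds the sum of the dimensions of the cohomologies of `G`. -/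
theorem sum_finrank_le_Ht (h : Hyp d.toAddMonoidHom K G ψ) {p : ℕ} (hp0 : p ≠ 0)
    (hk : ∀ t : k, ∃ u : k, u ^ p = t) (hp : ∀ (t : k) (g : 𝔾), ψ (t • g) = t ^ p • ψ g) (m : ℕ)
    (hsurj : ∀ a ≤ (m : ℤ), Surj d.toAddMonoidHom K G ψ a)
    (hinj : ∀ a ≤ (m : ℤ), Inj d.toAddMonoidHom K G ψ a)
    (hfin : ∀ a ≤ m, Module.Finite k (Hc (K (a : ℤ)) (m - a))) :
    (∀ a ≤ m, Module.Finite k (Hc (G (a : ℤ)) (m - a))) ∧
    ∑ a ∈ Finset.range (m + 1), Module.finrank k (Hc (G (a : ℤ)) (m - a)) ≤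
      Module.finrank k (Ht d K m) := by
  obtain ⟨h1, -⟩ := finrank_Ht_le d h.sysK h.dd m hfin
  have hs : ∀ (t : k) (x : ∀ q : Fin (m + 1), Hc (G ((m : ℤ) - (q : ℕ))) q),
      Phi h m (fun q => t • x q) = t ^ p • Phi h m x := fun t x => by
    rw [Phi_apply, Phi_apply, Finset.smul_sum]
    exact Finset.sum_congr rfl fun q _ => Phi1_smul h m q p hp t (x q)
  obtain ⟨h2, h3⟩ := finite_and_sum_finrank_le
    hp0 hk (fun q : Fin (m + 1) => Hc (G ((m : ℤ) - (q : ℕ))) q) (Phi h m)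
      (Phi_injective h m hsurj hinj) hs
  refine ⟨fun a ha => ?_, ?_⟩
  · have h5 := h2 ⟨m - a, by omega⟩
    dsimp only at h5
    have e : (m : ℤ) - ((m - a : ℕ) : ℤ) = a := by
      rw [Nat.cast_sub ha]
      ring
    rwa [e] at h5
  · rwa [sum_reindex m (fun a q => Module.finrank k (Hc (G a) q))] at h3

/-- The main inequality. -/
theorem sum_finrank_le (h : Hyp d.toAddMonoidHom K G ψ) {p : ℕ} (hp0 : p ≠ 0)
    (hk : ∀ t : k, ∃ u : k, u ^ p = t) (hp : ∀ (t : k) (g : 𝔾), ψ (t • g) = t ^ p • ψ g) (m : ℕ)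
    (hsurj : ∀ a ≤ (m : ℤ), Surj d.toAddMonoidHom K G ψ a)
    (hinj : ∀ a ≤ (m : ℤ), Inj d.toAddMonoidHom K G ψ a)
    (hfin : ∀ a ≤ m, Module.Finite k (Hc (K (a : ℤ)) (m - a))) :
    ∑ a ∈ Finset.range (m + 1), Module.finrank k (Hc (G (a : ℤ)) (m - a)) ≤
      ∑ a ∈ Finset.range (m + 1), Module.finrank k (Hc (K (a : ℤ)) (m - a)) :=
  (sum_finrank_le_Ht h hp0 hk hp m hsurj hinj hfin).2.trans (finrank_Ht_le d h.sysK h.dd m hfin).2

/-- If the sums of dimensions agree then every Čech cocycle of `K 0` lifts to a total cocycle. -/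
theorem exists_lift (h : Hyp d.toAddMonoidHom K G ψ) {p : ℕ} (hp0 : p ≠ 0)
    (hk : ∀ t : k, ∃ u : k, u ^ p = t) (hp : ∀ (t : k) (g : 𝔾), ψ (t • g) = t ^ p • ψ g) (m : ℕ)
    (hsurj : ∀ a ≤ (m : ℤ), Surj d.toAddMonoidHom K G ψ a)
    (hinj : ∀ a ≤ (m : ℤ), Inj d.toAddMonoidHom K G ψ a)
    (hfin : ∀ a ≤ m, Module.Finite k (Hc (K (a : ℤ)) (m - a)))
    (heq : ∑ a ∈ Finset.range (m + 1), Module.finrank k (Hc (K (a : ℤ)) (m - a)) ≤
      ∑ a ∈ Finset.range (m + 1), Module.finrank k (Hc (G (a : ℤ)) (m - a)))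
    {c : (ℕ → ι) → W} (hc : c ∈ Zc (K 0) m) :
    ∃ x ∈ Tot K m, D d.toAddMonoidHom x = 0 ∧ c - x m ∈ Bc (K 0) m :=
  exists_lift_of_finrank d h.sysK h.dd m hfin
    (heq.trans (sum_finrank_le_Ht h hp0 hk hp m hsurj hinj hfin).2) hc

/-- If the sums of dimensions agree and `ψ` takes values in `K'`, then every Čech cocycle of `K 0` in degree `m`
is cohomologous to one of `K' 0`. -/
theorem exists_cocycle_sub (h : Hyp d.toAddMonoidHom K G ψ) {p : ℕ} (hp0 : p ≠ 0)
    (hk : ∀ t : k, ∃ u : k, u ^ p = t) (hp : ∀ (t : k) (g : 𝔾), ψ (t • g) = t ^ p • ψ g) (m : ℕ)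
    (hsurj : ∀ a ≤ (m : ℤ), Surj d.toAddMonoidHom K G ψ a)
    (hinj : ∀ a ≤ (m : ℤ), Inj d.toAddMonoidHom K G ψ a)
    (hfin : ∀ a ≤ m, Module.Finite k (Hc (K (a : ℤ)) (m - a)))
    (heq : ∑ a ∈ Finset.range (m + 1), Module.finrank k (Hc (K (a : ℤ)) (m - a)) ≤
      ∑ a ∈ Finset.range (m + 1), Module.finrank k (Hc (G (a : ℤ)) (m - a)))
    {K' : ℤ → Set ι → Submodule k W} (h' : Hyp d.toAddMonoidHom K' G ψ)
    {c : (ℕ → ι) → W} (hc : c ∈ Zc (K 0) m) :
    ∃ c' ∈ Zc (K' 0) m, c - c' ∈ Bc (K 0) m := by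
  obtain ⟨x, hx, hDx, hcx⟩ := exists_lift h hp0 hk hp m hsurj hinj hfin heq hc
  obtain ⟨g, hg, hDg, y, hy, hxy⟩ := exists_of_closed h hsurj hinj hx hDx
  have hPsi : Psi ψ g ∈ Tot K' m := Psi_mem h' hg
  have hDPsi : D d.toAddMonoidHom (Psi ψ g) = 0 := by
    rw [D_Psi _ ψ h.closed (fun q => (hg q).1), hDg, Psi_zero]
  have hmem := hPsi m
  rw [sub_self] at hmem
  have hm1 : Psi ψ g (m + 1) = 0 := eq_zero_of_gt h'.sysK hPsi (by push_cast; omega)
  have hδ : δ m (Psi ψ g m) = 0 := by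
    funext i
    have h1 := congrFun (congrFun hDPsi (m + 1)) i
    rw [D_succ_apply, hm1, Pi.zero_apply, map_zero, smul_zero, add_zero] at h1
    exact h1
  refine ⟨Psi ψ g m, mem_Zc.2 ⟨hmem, hδ⟩, ?_⟩
  have e : c - Psi ψ g m = (c - x m) + D d.toAddMonoidHom y m := by
    rw [hxy, Pi.add_apply]
    abel
  rw [e]
  refine Submodule.add_mem _ hcx ?_
  have hym : y m = 0 := eq_zero_of_gt h.sysK hy (by omega)
  cases m with
  | zero =>
    rw [mem_Bc_zero]
    funext i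
    rw [D_zero_apply, hym, Pi.zero_apply, map_zero]
  | succ m =>
    rw [mem_Bc_succ]
    refine ⟨y m, ?_, ?_⟩
    · have h1 := hy m
      have e : ((m + 1 : ℕ) : ℤ) - 1 - (m : ℤ) = 0 := by push_cast; ring
      rwa [e] at h1
    · funext i
      rw [D_succ_apply, hym, Pi.zero_apply, map_zero, smul_zero, add_zero]

end K912.Num
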