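import Groth.Agent.DelIll.K912.AltProp
import Groth.Agent.DelIll.K912.Num
import Mathlib.Data.Matrix.Mul
import Mathlib.Algebra.CharP.Lemmas
import Mathlib.Data.Nat.Prime.Factorial

/-!
# The twisted Deligne-Illusie map and the local-to-global principle
-/

set_option autoImplicit false

namespace K912.Twist

open K912.Seq K912.Cx K912.Op K912.Alt K912.Stair
open scoped Nat

section Act

variable {J R M : Type*} [Fintype J] [CommRing R] [AddCommGroup M] [Module R M]

/-- The action of matrices on families. -/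
def act (C : Matrix J J R) (x : J → M) : J → M := fun j => ∑ l, C j l • x l

theorem act_apply (C : Matrix J J R) (x : J → M) (j : J) : act C x j = ∑ l, C j l • x l := rfl

theorem act_mul (C C' : Matrix J J R) (x : J → M) : act (C * C') x = act C (act C' x) := by
  funext j
  simp only [act_apply, Matrix.mul_apply, Finset.sum_smul, Finset.smul_sum, mul_smul]
  exact Finset.sum_comm

theorem act_one [DecidableEq J] (x : J → M) : act (1 : Matrix J J R) x = x := by
  funext j
  rw [act_apply, Finset.sum_eq_single j]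
  · rw [Matrix.one_apply_eq, one_smul]
  · intro l _ hl
    rw [Matrix.one_apply_ne hl.symm, zero_smul]
  · intro h
    exact absurd (Finset.mem_univ j) h

theorem act_add (C : Matrix J J R) (x y : J → M) : act C (x + y) = act C x + act C y := by
  funext j
  simp only [act_apply, Pi.add_apply, smul_add, Finset.sum_add_distrib]

theorem act_zero (C : Matrix J J R) : act C (0 : J → M) = 0 := by
  funext j
  simp [act_apply]

theorem act_inj [DecidableEq J] {C C' : Matrix J J R} (h : C' * C = 1) {x y : J → M}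
    (hxy : act C x = act C y) : x = y := by
  rw [← act_one (R := R) x, ← act_one (R := R) y, ← h, act_mul, act_mul, hxy]

/-- The Frobenius twist of a matrix. -/
def tw (p : ℕ) (C : Matrix J J R) : Matrix J J R := C.map (· ^ p)

theorem tw_mul (p : ℕ) [Fact p.Prime] [CharP R p] (C C' : Matrix J J R) :
    tw p (C * C') = tw p C * tw p C' :=
  Matrix.map_mul (f := frobenius R p)

omit [Fintype J] in
theorem tw_one (p : ℕ) [Fact p.Prime] [CharP R p] [DecidableEq J] : tw p (1 : Matrix J J R) = 1 :=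
  Matrix.map_one (frobenius R p) (map_zero _) (map_one _)

end Act

variable {p : ℕ} {ι R L : Type*} [CommRing R] [AddCommGroup L] [Module R L] (X : Dat p ι R L)
variable {k : Type*} [Field k] [Algebra k R] [Module k L] [IsScalarTower k R L]
variable {J : Type*}

/-- The differential is linear over a field closed under `p`-th roots. -/
def dk (hk : ∀ t : k, ∃ u : k, u ^ p = t) : ExteriorAlgebra R L →ₗ[k] ExteriorAlgebra R L where
  toFun := X.d
  map_add' := map_add X.d
  map_smul' t x := by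
    obtain ⟨u, rfl⟩ := hk t
    rw [RingHom.id_apply, ← algebraMap_smul R (u ^ p) x, ← algebraMap_smul R (u ^ p) (X.d x), map_pow,
      X.d_pow]

/-- The componentwise differential. -/
def dJ (hk : ∀ t : k, ∃ u : k, u ^ p = t) : (J → ExteriorAlgebra R L) →ₗ[k] (J → ExteriorAlgebra R L) :=
  LinearMap.pi fun j => dk X hk ∘ₗ LinearMap.proj j

theorem dJ_apply (hk : ∀ t : k, ∃ u : k, u ^ p = t) (x : J → ExteriorAlgebra R L) (j : J) :
    dJ X hk x j = X.d (x j) := rfl

theorem dJ_act (hk : ∀ t : k, ∃ u : k, u ^ p = t) [Fintype J] (C : Matrix J J R)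
    (x : J → ExteriorAlgebra R L) : dJ X hk (act (tw p C) x) = act (tw p C) (dJ X hk x) := by
  funext j
  rw [dJ_apply, act_apply, act_apply, map_sum]
  exact Finset.sum_congr rfl fun l _ => X.d_pow _ _

/-- Evaluation of a component. -/
def ev (j : J) : T ι (J → ExteriorAlgebra R L) → T ι (ExteriorAlgebra R L) := fun x n i => x n i j

theorem D_dJ (hk : ∀ t : k, ∃ u : k, u ^ p = t) (x : T ι (J → ExteriorAlgebra R L)) (n : ℕ)
    (i : ℕ → ι) (j : J) :
    D (dJ X hk).toAddMonoidHom x n i j = D X.d (ev j x) n i := by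
  cases n with
  | zero => rfl
  | succ n =>
    rw [D_succ_apply, D_succ_apply, Pi.add_apply, Pi.smul_apply, δ_apply, δ_apply, Finset.sum_apply]
    rfl

variable [Fact p.Prime] [CharP R p]

/-- The twisted Deligne-Illusie map. -/
noncomputable def ψJ : (J → ExteriorAlgebra R L) →+ T ι (J → ExteriorAlgebra R L) where
  toFun g n i j := Ψ X (g j) n i
  map_zero' := by
    funext n i j
    rw [Pi.zero_apply, map_zero]
    rfl
  map_add' g g' := by
    funext n i j
    rw [Pi.add_apply, map_add]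
    rfl

theorem ψJ_apply (g : J → ExteriorAlgebra R L) (n : ℕ) (i : ℕ → ι) (j : J) :
    ψJ X g n i j = Ψ X (g j) n i := rfl

theorem ψJ_smul (t : k) (g : J → ExteriorAlgebra R L) : ψJ X (t • g) = t ^ p • ψJ X g := by
  funext n i j
  rw [ψJ_apply, Pi.smul_apply, ← algebraMap_smul R t (g j), Ψ_smul, ← map_pow]
  change algebraMap k R (t ^ p) • Ψ X (g j) n i = _
  rw [algebraMap_smul]
  rfl

theorem ψJ_act [Fintype J] (C : Matrix J J R) (g : J → ExteriorAlgebra R L) (n : ℕ) (i : ℕ → ι) :
    ψJ X (act C g) n i = act (tw p C) (ψJ X g n i) := by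
  funext j
  rw [ψJ_apply, act_apply, act_apply, map_sum, Finset.sum_apply, Finset.sum_apply]
  refine Finset.sum_congr rfl fun l _ => ?_
  rw [Ψ_smul]
  rfl

theorem D_ψJ (hk : ∀ t : k, ∃ u : k, u ^ p = t) (g : J → ExteriorAlgebra R L) :
    D (dJ X hk).toAddMonoidHom (ψJ X g) = 0 := by
  funext n i j
  rw [D_dJ]
  have h : ev j (ψJ X g) = Ψ X (g j) := rfl
  rw [h, D_Ψ]
  rfl

theorem dep_ψJ (g : J → ExteriorAlgebra R L) (n : ℕ) : Dep n (ψJ X g n) := by
  intro i i' hi
  funext j
  exact dep_Ψ X (g j) n i i' hi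

/-- The local structure over `s`. -/
structure Loc [Fintype J] [DecidableEq J] (F : ι → ExteriorAlgebra R L →+* ExteriorAlgebra R L)
    (K G : ℤ → Set ι → Submodule k (J → ExteriorAlgebra R L)) (s : Set ι) where
  /-- functions -/
  A : Subalgebra k R
  /-- logarithmic one-forms -/
  N : Submodule k L
  /-- functions with poles -/
  P : Submodule k R
  /-- a frame -/
  C : Matrix J J R
  /-- its inverse -/
  C' : Matrix J J R
  mul_inv : C * C' = 1
  inv_mul : C' * C = 1
  le : Subalgebra.toSubmodule A ≤ P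
  f_mem : ∀ i ∈ s, ∀ w ∈ N, X.f i w ∈ N
  h_mem : ∀ i ∈ s, ∀ j ∈ s, ∀ w ∈ N, X.h i j w ∈ A
  mem_G : ∀ a x, x ∈ G a s ↔ ∃ y : J → ExteriorAlgebra R L,
    (∀ j, y j ∈ latZ (Subalgebra.toSubmodule A) N a) ∧ act C y = x
  mem_K : ∀ a x, x ∈ K a s ↔ ∃ y : J → ExteriorAlgebra R L,
    (∀ j, y j ∈ latZ P N a) ∧ act (tw p C) y = x
  d_mem : ∀ a, ∀ x ∈ latZ P N a, X.d x ∈ latZ P N (a + 1)
  surj : ∀ (a : ℕ), a < p → ∀ i ∈ s, ∀ x ∈ lat P N a, X.d x = 0 →
    ∃ g ∈ lat (Subalgebra.toSubmodule A) N a, ∃ y ∈ latZ P N ((a : ℤ) - 1), x = F i g + X.d y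
  inj : ∀ (a : ℕ), a < p → ∀ i ∈ s, ∀ g ∈ lat (Subalgebra.toSubmodule A) N a,
    ∀ y ∈ latZ P N ((a : ℤ) - 1), F i g = X.d y → g = 0

variable [Fintype J] [DecidableEq J] {F : ι → ExteriorAlgebra R L →+* ExteriorAlgebra R L}
  {K G : ℤ → Set ι → Submodule k (J → ExteriorAlgebra R L)}

/-- The hypotheses of the staircase argument from the local structures. -/
theorem hyp (hk : ∀ t : k, ∃ u : k, u ^ p = t) (hmK : ∀ a, Monotone (K a)) (hmG : ∀ a, Monotone (G a))
    (hK0 : ∀ a, K a ∅ = ⊥) (hG0 : ∀ a, G a ∅ = ⊥)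
    (hloc : ∀ s : Set ι, s.Nonempty → Nonempty (Loc X F K G s)) :
    Hyp (dJ X hk).toAddMonoidHom K G (ψJ X) where
  sysK :=
    { mono := hmK
      neg := fun a ha s => by
        rcases s.eq_empty_or_nonempty with rfl | hs
        · exact hK0 a
        · obtain ⟨l⟩ := hloc s hs
          rw [eq_bot_iff]
          intro x hx
          obtain ⟨y, hy, rfl⟩ := (l.mem_K a x).1 hx
          have : y = 0 := by
            funext j
            have := hy j
            rw [latZ_neg _ _ ha] at this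
            exact this
          rw [this, act_zero]
          exact Submodule.zero_mem _
      d_mem := fun a s x hx => by
        rcases s.eq_empty_or_nonempty with rfl | hs
        · rw [hK0] at hx
          rw [(Submodule.mem_bot k).1 hx, map_zero]
          exact Submodule.zero_mem _
        · obtain ⟨l⟩ := hloc s hs
          obtain ⟨y, hy, rfl⟩ := (l.mem_K a x).1 hx
          refine (l.mem_K _ _).2 ⟨dJ X hk y, fun j => l.d_mem a _ (hy j), ?_⟩
          exact (dJ_act X hk _ _).symm }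
  sysG :=
    { mono := hmG
      neg := fun a ha s => by
        rcases s.eq_empty_or_nonempty with rfl | hs
        · exact hG0 a
        · obtain ⟨l⟩ := hloc s hs
          rw [eq_bot_iff]
          intro x hx
          obtain ⟨y, hy, rfl⟩ := (l.mem_G a x).1 hx
          have : y = 0 := by
            funext j
            have := hy j
            rw [latZ_neg _ _ ha] at this
            exact this
          rw [this, act_zero]
          exact Submodule.zero_mem _
      d_mem := fun a s x _ => by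
        rw [AddMonoidHom.zero_apply]
        exact Submodule.zero_mem _ }
  dd x := funext fun j => X.dd (x j)
  closed := D_ψJ X hk
  dep := dep_ψJ X
  mem a s g hg n i hi := by
    have hs : s.Nonempty := ⟨i 0, hi (mem_rg i (Nat.zero_le n))⟩
    obtain ⟨l⟩ := hloc s hs
    obtain ⟨y, hy, rfl⟩ := (l.mem_G a g).1 hg
    rw [ψJ_act]
    exact (l.mem_K _ _).2 ⟨_, fun j =>
      latZ_mono l.le le_rfl _ (Ψ_mem X l.A l.N s l.f_mem l.h_mem a (hy j) n i hi), rfl⟩

omit [Fintype J] [DecidableEq J] in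
theorem isUnit_factorial {a : ℕ} (ha : a < p) [CharP k p] : ((a ! : ℕ) : k) ≠ 0 := by
  intro h
  rw [CharP.cast_eq_zero_iff k p, (Fact.out (p := p.Prime) : p.Prime).dvd_factorial] at h
  omega

omit [Fact p.Prime] [CharP R p] [Fintype J] [DecidableEq J] in
theorem map_smul_F (hF : ∀ i b, F i (algebraMap R _ b) = algebraMap R _ (b ^ p)) (i : ι) (t : k)
    (x : ExteriorAlgebra R L) : F i (t • x) = t ^ p • F i x := by
  rw [← algebraMap_smul R t x, Algebra.smul_def (algebraMap k R t) x, map_mul, hF, ← Algebra.smul_def, ← map_pow,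
    algebraMap_smul]

/-- The local surjectivity. -/
theorem surj [CharP k p] (hk : ∀ t : k, ∃ u : k, u ^ p = t)
    (hF : ∀ i b, F i (algebraMap R _ b) = algebraMap R _ (b ^ p))
    (hFι : ∀ i w, F i (ExteriorAlgebra.ι R w) = ExteriorAlgebra.ι R (X.f i w))
    (hloc : ∀ s : Set ι, s.Nonempty → Nonempty (Loc X F K G s)) (a : ℤ) (ha : a < p) :
    Surj (dJ X hk).toAddMonoidHom K G (ψJ X) a := by
  intro s hs i hi x hx hdx
  obtain ⟨l⟩ := hloc s ⟨_, hi⟩
  obtain ⟨x', hx', rfl⟩ := (l.mem_K a x).1 hx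
  have hinv : tw p l.C' * tw p l.C = 1 := by rw [← tw_mul, l.inv_mul, tw_one]
  have hdx' : dJ X hk x' = 0 := by
    refine act_inj hinv ?_
    rw [act_zero, ← dJ_act]
    exact hdx
  rcases lt_or_ge a 0 with ha0 | ha0
  · have : x' = 0 := by
      funext j
      have := hx' j
      rw [latZ_neg _ _ ha0] at this
      exact this
    refine ⟨0, Submodule.zero_mem _, 0, Submodule.zero_mem _, ?_⟩
    rw [this, act_zero, map_zero, map_zero]
    exact (add_zero _).symm
  obtain ⟨a, rfl⟩ := Int.eq_ofNat_of_zero_le ha0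
  have hap : a < p := by omega
  have h1 : ∀ j, ∃ g ∈ lat (Subalgebra.toSubmodule l.A) l.N a, ∃ y ∈ latZ l.P l.N ((a : ℤ) - 1),
      x' j = F (i 0) g + X.d y := fun j => l.surj a hap (i 0) hi (x' j) (hx' j) (congrFun hdx' j)
  choose g hg y hy hxy using h1
  obtain ⟨c, hc⟩ := hk ((a ! : ℕ) : k)⁻¹
  refine ⟨act l.C (c • g), (l.mem_G _ _).2 ⟨_, fun j => Submodule.smul_mem _ _ (hg j), rfl⟩,
    act (tw p l.C) y, (l.mem_K _ _).2 ⟨y, hy, rfl⟩, ?_⟩
  rw [ψJ_act]
  change _ = _ + dJ X hk _
  rw [dJ_act, ← act_add]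
  congr 1
  funext j
  rw [Pi.add_apply, ψJ_apply, Pi.smul_apply,
    Ψ_apply_zero X F hF hFι a (Submodule.smul_of_tower_mem _ c (lat_le_exteriorPower _ _ a (hg j))),
    map_smul_F hF, hc, hxy, dJ_apply, ← Nat.cast_smul_eq_nsmul k, smul_smul,
    mul_inv_cancel₀ (isUnit_factorial hap), one_smul]

/-- The local injectivity. -/
theorem inj [CharP k p] (hk : ∀ t : k, ∃ u : k, u ^ p = t)
    (hF : ∀ i b, F i (algebraMap R _ b) = algebraMap R _ (b ^ p))
    (hFι : ∀ i w, F i (ExteriorAlgebra.ι R w) = ExteriorAlgebra.ι R (X.f i w))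
    (hloc : ∀ s : Set ι, s.Nonempty → Nonempty (Loc X F K G s)) (a : ℤ) (ha : a < p) :
    Inj (dJ X hk).toAddMonoidHom K G (ψJ X) a := by
  intro s hs i hi g hg y hy hgy
  obtain ⟨l⟩ := hloc s ⟨_, hi⟩
  obtain ⟨g', hg', rfl⟩ := (l.mem_G a g).1 hg
  obtain ⟨y', hy', rfl⟩ := (l.mem_K _ y).1 hy
  have hinv : tw p l.C' * tw p l.C = 1 := by rw [← tw_mul, l.inv_mul, tw_one]
  rcases lt_or_ge a 0 with ha0 | ha0
  · have : g' = 0 := by
      funext j
      have := hg' j
      rw [latZ_neg _ _ ha0] at this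
      exact this
    rw [this, act_zero]
  obtain ⟨a, rfl⟩ := Int.eq_ofNat_of_zero_le ha0
  have hap : a < p := by omega
  change _ = dJ X hk _ at hgy
  rw [ψJ_act, dJ_act] at hgy
  have h1 := act_inj hinv hgy
  have h2 : g' = 0 := by
    funext j
    have h3 := congrFun h1 j
    rw [ψJ_apply, Ψ_apply_zero X F hF hFι a (lat_le_exteriorPower _ _ a (hg' j)), dJ_apply,
      ← Nat.cast_smul_eq_nsmul k] at h3
    refine l.inj a hap (i 0) hi (g' j) (hg' j) (((a ! : ℕ) : k)⁻¹ • y' j)
      (Submodule.smul_mem _ _ (hy' j)) ?_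
    have h4 : X.d (((a ! : ℕ) : k)⁻¹ • y' j) = ((a ! : ℕ) : k)⁻¹ • X.d (y' j) :=
      (dk X hk).map_smul _ _
    rw [h4, ← h3, smul_smul, inv_mul_cancel₀ (isUnit_factorial hap), one_smul]
  rw [h2, act_zero]

end K912.Twist
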