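import Groth.Agent.DelIll.K912.Op
import Mathlib.LinearAlgebra.ExteriorAlgebra.Basic
import Mathlib.LinearAlgebra.ExteriorAlgebra.Grading
import Mathlib.LinearAlgebra.ExteriorPower.Basic
import Mathlib.Algebra.CharP.Frobenius

/-!
# The Deligne-Illusie map on the exterior algebra

From local maps `f i : L → L`, `h i j : L → R` (semilinear for Frobenius) one gets operators `Lop` on the total
Čech complex of `Λ = ExteriorAlgebra R L`; `psi` is the antisymmetrised product of these operators applied to the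
unit cochain `t0`.
-/

set_option autoImplicit false

namespace K912.Alt

open K912.Seq K912.Cx K912.Op

/-- The Frobenius twist of a module. -/
def Tw (_ : ℕ) (M : Type*) : Type _ := M

section Tw

variable {p : ℕ} {R M : Type*}

instance [AddCommGroup M] : AddCommGroup (Tw p M) := inferInstanceAs (AddCommGroup M)

/-- The underlying element. -/
def un (x : Tw p M) : M := x

/-- `b` acts as `b ^ p`. -/
instance [Fact p.Prime] [CommRing R] [CharP R p] [AddCommGroup M] [Module R M] :
    Module R (Tw p M) where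
  smul b x := b ^ p • un x
  one_smul x := by
    change (1 : R) ^ p • un x = x
    rw [one_pow, one_smul]
    rfl
  mul_smul b c x := by
    change (b * c) ^ p • un x = b ^ p • (c ^ p • un x)
    rw [mul_pow, mul_smul]
  smul_zero b := by
    change b ^ p • (0 : M) = 0
    rw [smul_zero]
  smul_add b x y := by
    change b ^ p • (un x + un y) = b ^ p • un x + b ^ p • un y
    rw [smul_add]
  add_smul b c x := by
    change (b + c) ^ p • un x = b ^ p • un x + c ^ p • un x
    rw [add_pow_char, add_smul]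
  zero_smul x := by
    change (0 : R) ^ p • un x = 0
    rw [zero_pow (Fact.out (p := p.Prime)).ne_zero, zero_smul]

theorem tw_smul [Fact p.Prime] [CommRing R] [CharP R p] [AddCommGroup M] [Module R M] (b : R)
    (x : Tw p M) : b • x = b ^ p • un x := rfl

end Tw

/-- The input of the construction. -/
structure Dat (p : ℕ) (ι R L : Type*) [CommRing R] [AddCommGroup L] [Module R L] where
  /-- the differential -/
  d : ExteriorAlgebra R L →+ ExteriorAlgebra R L
  /-- the local Frobenius maps divided by `p` -/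
  f : ι → L →+ L
  /-- the homotopies -/
  h : ι → ι → L →+ R
  f_smul : ∀ i (b : R) (w : L), f i (b • w) = b ^ p • f i w
  h_smul : ∀ i j (b : R) (w : L), h i j (b • w) = b ^ p * h i j w
  coc : ∀ i j l w, h i j w + h j l w = h i l w
  anti : ∀ i w x, d (ExteriorAlgebra.ι R (f i w) * x) = -(ExteriorAlgebra.ι R (f i w) * d x)
  diff : ∀ i j w x, ExteriorAlgebra.ι R (f j w) * x - ExteriorAlgebra.ι R (f i w) * x =
    d (h i j w • x) - h i j w • d x
  d_pow : ∀ (b : R) x, d (b ^ p • x) = b ^ p • d x
  d_one : d 1 = 0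
  dd : ∀ x, d (d x) = 0

variable {p : ℕ} {ι R L : Type*} [CommRing R] [AddCommGroup L] [Module R L] (X : Dat p ι R L)

/-- Multiplication by `f i w`. -/
noncomputable def U (w : L) (i : ι) : ExteriorAlgebra R L →+ ExteriorAlgebra R L :=
  AddMonoidHom.mulLeft (ExteriorAlgebra.ι R (X.f i w))

/-- Multiplication by `h i j w`. -/
noncomputable def V (w : L) (i j : ι) : ExteriorAlgebra R L →+ ExteriorAlgebra R L :=
  DistribSMul.toAddMonoidHom _ (X.h i j w)

theorem U_apply (w : L) (i : ι) (x : ExteriorAlgebra R L) :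
    U X w i x = ExteriorAlgebra.ι R (X.f i w) * x := rfl

theorem V_apply (w : L) (i j : ι) (x : ExteriorAlgebra R L) : V X w i j x = X.h i j w • x := rfl

theorem fam (w : L) : Fam X.d (U X w) (V X w) where
  anti i x := X.anti i w x
  diff i j x := X.diff i j w x
  coc i j l x := by
    rw [V_apply, V_apply, V_apply, ← X.coc i j l w, add_smul]

/-- The unit cochain. -/
noncomputable def t0 : T ι (ExteriorAlgebra R L) := sing 0 fun _ => 1

theorem D_t0 : D X.d (t0 : T ι (ExteriorAlgebra R L)) = 0 := by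
  funext n i
  rcases n with _ | _ | n
  · rw [D_zero_apply, t0, sing_self, X.d_one]
    rfl
  · rw [D_succ_apply, t0, sing_self, sing_ne (by omega), δ_apply]
    simp [Finset.sum_range_succ]
  · rw [D_succ_apply, t0, sing_ne (by omega), sing_ne (by omega), δ_zero]
    simp

theorem dep_t0 (n : ℕ) : Dep n ((t0 : T ι (ExteriorAlgebra R L)) n) := by
  intro i i' _
  by_cases h : n = 0
  · subst h
    rw [t0, sing_self]
  · rw [t0, sing_ne h]
    rfl

variable [Fact p.Prime] [CharP R p]

/-- The operator attached to `w`, linear for the twisted structure. -/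
noncomputable def LopE (w : L) : Module.End R (Tw p (T ι (ExteriorAlgebra R L))) where
  toFun := Lop (U X w) (V X w)
  map_add' := Lop_add
  map_smul' b x := by
    change Lop (U X w) (V X w) (b ^ p • un x) = b ^ p • Lop (U X w) (V X w) (un x)
    generalize un x = x
    funext n i
    cases n with
    | zero =>
      change ExteriorAlgebra.ι R (X.f (i 0) w) * (b ^ p • x 0 i) =
        b ^ p • (ExteriorAlgebra.ι R (X.f (i 0) w) * x 0 i)
      rw [mul_smul_comm]
    | succ n =>
      change (-1 : ℤ) ^ (n + 1) • (ExteriorAlgebra.ι R (X.f (i 0) w) * (b ^ p • x (n + 1) i)) +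
        X.h (i 0) (i 1) w • (b ^ p • x n (shift 1 i)) =
        b ^ p • ((-1 : ℤ) ^ (n + 1) • (ExteriorAlgebra.ι R (X.f (i 0) w) * x (n + 1) i) +
        X.h (i 0) (i 1) w • x n (shift 1 i))
      rw [mul_smul_comm, smul_add, smul_comm (b ^ p), smul_comm (b ^ p)]

theorem LopE_apply (w : L) (x : T ι (ExteriorAlgebra R L)) :
    LopE X w x = Lop (U X w) (V X w) x := rfl

/-- The operator as a linear function of `w`. -/
noncomputable def LopL : L →ₗ[R] Module.End R (Tw p (T ι (ExteriorAlgebra R L))) where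
  toFun := LopE X
  map_add' w w' := by
    refine LinearMap.ext fun x => ?_
    change Lop (U X (w + w')) (V X (w + w')) x = Lop (U X w) (V X w) x + Lop (U X w') (V X w') x
    funext n i
    cases n with
    | zero =>
      change ExteriorAlgebra.ι R (X.f (i 0) (w + w')) * x 0 i =
        ExteriorAlgebra.ι R (X.f (i 0) w) * x 0 i + ExteriorAlgebra.ι R (X.f (i 0) w') * x 0 i
      rw [map_add, map_add, add_mul]
    | succ n =>
      change (-1 : ℤ) ^ (n + 1) • (ExteriorAlgebra.ι R (X.f (i 0) (w + w')) * x (n + 1) i) +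
        X.h (i 0) (i 1) (w + w') • x n (shift 1 i) =
        ((-1 : ℤ) ^ (n + 1) • (ExteriorAlgebra.ι R (X.f (i 0) w) * x (n + 1) i) +
          X.h (i 0) (i 1) w • x n (shift 1 i)) +
        ((-1 : ℤ) ^ (n + 1) • (ExteriorAlgebra.ι R (X.f (i 0) w') * x (n + 1) i) +
          X.h (i 0) (i 1) w' • x n (shift 1 i))
      rw [map_add, map_add, map_add, add_mul, smul_add, add_smul]
      abel
  map_smul' b w := by
    refine LinearMap.ext fun x => ?_
    change Lop (U X (b • w)) (V X (b • w)) (un x) = b ^ p • Lop (U X w) (V X w) (un x)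
    generalize un x = x
    funext n i
    cases n with
    | zero =>
      change ExteriorAlgebra.ι R (X.f (i 0) (b • w)) * x 0 i =
        b ^ p • (ExteriorAlgebra.ι R (X.f (i 0) w) * x 0 i)
      rw [X.f_smul, map_smul, smul_mul_assoc]
    | succ n =>
      change (-1 : ℤ) ^ (n + 1) • (ExteriorAlgebra.ι R (X.f (i 0) (b • w)) * x (n + 1) i) +
        X.h (i 0) (i 1) (b • w) • x n (shift 1 i) =
        b ^ p • ((-1 : ℤ) ^ (n + 1) • (ExteriorAlgebra.ι R (X.f (i 0) w) * x (n + 1) i) +
          X.h (i 0) (i 1) w • x n (shift 1 i))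
      rw [X.f_smul, map_smul, smul_mul_assoc, X.h_smul, mul_comm, mul_smul, smul_add, smul_comm (b ^ p),
        smul_comm (X.h (i 0) (i 1) w) (b ^ p)]

/-- The product of the operators of a family, applied to the unit cochain. -/
noncomputable def prodL {a : ℕ} (v : Fin a → L) : T ι (ExteriorAlgebra R L) :=
  (List.ofFn fun j => LopL X (v j)).prod (t0 : T ι (ExteriorAlgebra R L))

theorem prodL_zero (v : Fin 0 → L) : prodL X v = (t0 : T ι (ExteriorAlgebra R L)) := by
  rw [prodL, List.ofFn_zero, List.prod_nil]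
  rfl

theorem prodL_succ {a : ℕ} (v : Fin (a + 1) → L) :
    prodL X v = Lop (U X (v 0)) (V X (v 0)) (prodL X fun j : Fin a => v j.succ) := by
  rw [prodL, List.ofFn_succ, List.prod_cons]
  rfl

theorem D_prodL {a : ℕ} (v : Fin a → L) : D X.d (prodL X v) = 0 := by
  induction a with
  | zero => rw [prodL_zero, D_t0]
  | succ a ih =>
    rw [prodL_succ, D_Lop (fam X (v 0)), ih]
    have h0 := Lop_add (U := U X (v 0)) (V := V X (v 0)) 0 0
    rw [add_zero] at h0
    rw [left_eq_add.1 h0, neg_zero]

theorem dep_prodL {a : ℕ} (v : Fin a → L) (n : ℕ) : Dep n (prodL X v n) := by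
  induction a generalizing n with
  | zero => rw [prodL_zero]; exact dep_t0 n
  | succ a ih =>
    rw [prodL_succ]
    exact dep_Lop (fun n => ih _ n) n

/-- The value in Čech degree `0`. -/
theorem prodL_apply_zero {a : ℕ} (v : Fin a → L) (i : ℕ → ι) :
    prodL X v 0 i = ExteriorAlgebra.ιMulti R a (fun j => X.f (i 0) (v j)) := by
  induction a with
  | zero =>
    rw [prodL_zero, t0, sing_self, ExteriorAlgebra.ιMulti_apply, List.ofFn_zero, List.prod_nil]
  | succ a ih =>
    rw [prodL_succ, Lop_zero_apply, ih, U_apply, ExteriorAlgebra.ιMulti_apply,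
      ExteriorAlgebra.ιMulti_apply, List.ofFn_succ, List.prod_cons]

/-- Membership of the values in a system of lattices. -/
theorem prodL_mem {s : Set ι} {N : Set L} {Q : ℤ → AddSubgroup (ExteriorAlgebra R L)}
    (h1 : 1 ∈ Q 0)
    (hf : ∀ i ∈ s, ∀ w ∈ N, ∀ a, ∀ x ∈ Q a, ExteriorAlgebra.ι R (X.f i w) * x ∈ Q (a + 1))
    (hh : ∀ i ∈ s, ∀ j ∈ s, ∀ w ∈ N, ∀ a, ∀ x ∈ Q a, X.h i j w • x ∈ Q a)
    {a : ℕ} (v : Fin a → L) (hv : ∀ j, v j ∈ N) (n : ℕ) (i : ℕ → ι) (hi : rg n i ⊆ s) :
    prodL X v n i ∈ Q (a - n) := by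
  induction a generalizing n i with
  | zero =>
    rw [prodL_zero]
    by_cases hn : n = 0
    · subst hn
      rw [t0, sing_self]
      simpa using h1
    · rw [t0, sing_ne hn]
      exact AddSubgroup.zero_mem _
  | succ a ih =>
    rw [prodL_succ]
    cases n with
    | zero =>
      rw [Lop_zero_apply, U_apply]
      have h2 := hf (i 0) (hi (mem_rg i le_rfl)) (v 0) (hv 0) _ _
        (ih (fun j => v j.succ) (fun j => hv _) 0 i hi)
      have e : (a : ℤ) - ((0 : ℕ) : ℤ) + 1 = ((a + 1 : ℕ) : ℤ) - ((0 : ℕ) : ℤ) := by push_cast; ring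
      rwa [e] at h2
    | succ n =>
      rw [Lop_succ_apply, U_apply, V_apply]
      have h2 := hf (i 0) (hi (mem_rg i (Nat.zero_le _))) (v 0) (hv 0) _ _
        (ih (fun j => v j.succ) (fun j => hv _) (n + 1) i hi)
      have h3 := hh (i 0) (hi (mem_rg i (Nat.zero_le _))) (i 1) (hi (mem_rg i (by omega))) (v 0) (hv 0) _ _
        (ih (fun j => v j.succ) (fun j => hv _) n (shift 1 i) ((rg_shift (by omega) i).trans hi))
      have e : (a : ℤ) - ((n + 1 : ℕ) : ℤ) + 1 = ((a + 1 : ℕ) : ℤ) - ((n + 1 : ℕ) : ℤ) := by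
        push_cast; ring
      have e' : (a : ℤ) - ((n : ℕ) : ℤ) = ((a + 1 : ℕ) : ℤ) - ((n + 1 : ℕ) : ℤ) := by
        push_cast; ring
      rw [e] at h2
      rw [e'] at h3
      exact AddSubgroup.add_mem _ (AddSubgroup.zsmul_mem _ h2 _) h3

/-- The antisymmetrised product. -/
noncomputable def psiA (a : ℕ) : L [⋀^Fin a]→ₗ[R] Tw p (T ι (ExteriorAlgebra R L)) :=
  MultilinearMap.alternatization
    ((LinearMap.applyₗ (R := R) (M := Tw p (T ι (ExteriorAlgebra R L)))
      (M₂ := Tw p (T ι (ExteriorAlgebra R L)))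
      (t0 : T ι (ExteriorAlgebra R L))).compMultilinearMap
      ((MultilinearMap.mkPiAlgebraFin R a (Module.End R (Tw p (T ι (ExteriorAlgebra R L))))).compLinearMap
        fun _ => LopL X))

theorem psiA_apply (a : ℕ) (v : Fin a → L) : psiA X a v =
    ∑ σ : Equiv.Perm (Fin a), Equiv.Perm.sign σ • (prodL X (fun j => v (σ j)) :
      Tw p (T ι (ExteriorAlgebra R L))) := by
  rw [psiA, MultilinearMap.alternatization_apply]
  rfl

/-- The Deligne-Illusie map, up to the factors `a!`. -/
noncomputable def psi : ExteriorAlgebra R L →ₗ[R] Tw p (T ι (ExteriorAlgebra R L)) :=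
  (DirectSum.toModule R ℕ _ fun a => exteriorPower.alternatingMapLinearEquiv (psiA X a)) ∘ₗ
    (DirectSum.decomposeLinearEquiv fun a => ⋀[R]^a L).toLinearMap

theorem psi_ιMulti (a : ℕ) (v : Fin a → L) :
    psi X (ExteriorAlgebra.ιMulti R a v) = psiA X a v := by
  have h : ExteriorAlgebra.ιMulti R a v = ((exteriorPower.ιMulti R a v : ⋀[R]^a L) :
    ExteriorAlgebra R L) := rfl
  rw [psi, LinearMap.comp_apply, h]
  change DirectSum.toModule R ℕ _ _ (DirectSum.decompose (fun a => ⋀[R]^a L) _) = _
  rw [DirectSum.decompose_coe]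
  erw [DirectSum.toModule_lof]
  exact exteriorPower.alternatingMapLinearEquiv_apply_ιMulti _ _

end K912.Alt
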