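import Groth.Agent.DelIll.K912.Geo
import Groth.Agent.Dual3.K477.ExtCoh

/-!
# The main inequality for geometric data
-/

set_option autoImplicit false

universe u

open CategoryTheory CategoryTheory.Limits AlgebraicGeometry Opposite TopologicalSpace
open scoped TensorProduct
open Groth.Agent.Sga67.Sec Groth.Agent.Sga67.LocBasis Groth.Agent.Sga67.ExtSheaf
open Groth.Agent.Fga.MumCech
open K912.Alt K912.Twist K912.Frame K912.LatCmp

namespace K912.Asm

attribute [local instance] algV modS modP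

variable {p : ℕ} {k : Type u} [Field k] {X : Scheme.{u}} [X.Over (Spec (CommRingCat.of k))]
  {E : X.Modules} {n : ℕ} {G : Geo p k X E n}

variable {J : Type} [Fintype J] [DecidableEq J] {M M' : X.Modules} {La : ℕ → X.Modules}
  (φ : ∀ a, Phi a E (La a)) (hφ : ∀ a, PhiComp (φ a))

omit [DecidableEq J] in
include hφ in
theorem tau_bij (T : Frames G J M) (a : ℕ) : Function.Bijective (tau (La a) M G.V₀.1) := by
  obtain ⟨i⟩ := G.nonempty_ι
  exact Groth.Agent.Sga67.TensorOps.tau_bijective (isLocBasis_extPow (φ a) (hφ a) (G.hb i)) (T.hm i) (G.le i)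

/-- The system of lattices of the modules `La a ⊗ M`. -/
noncomputable def latN (T : Frames G J M) (a : ℕ) :
    Set G.ι → Submodule k (J → ExteriorAlgebra G.R G.L) :=
  Nl k (fun i => (G.U i).1) G.le (CohB1.tensorMod (La a) M)
    (phik (φ a) G.V₀ T.μ (tau_bij φ hφ T a) k)

theorem mem_latN (T : Frames G J M) (a : ℕ) {s : Set G.ι} {i : G.ι} (hi : i ∈ s)
    (y : J → ExteriorAlgebra G.R G.L) : y ∈ latN φ hφ T a s ↔
    ∃ z : J → ExteriorAlgebra G.R G.L,
      (∀ j, z j ∈ lat (Subalgebra.toSubmodule (G.As s)) (G.Ns s) a) ∧ act (T.C i) z = y :=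
  mem_Nl (φ a) G.V₀ T.μ (tau_bij φ hφ T a) k G.U G.le (hφ a) hi (G.aff s ⟨i, hi⟩) (G.hb i) (T.hm i) y

theorem latN_empty (T : Frames G J M) (a : ℕ) : latN φ hφ T a ∅ = ⊥ := Nl_empty _ _ _ _ _

theorem latN_mono (T : Frames G J M) (a : ℕ) : Monotone (latN φ hφ T a) := Nl_mono _ _ _ _ _

omit [DecidableEq J] in
theorem act_smul (C : Matrix J J G.R) (x : G.R) (z : J → ExteriorAlgebra G.R G.L) :
    act (fun j c => x * C j c) z = act C (x • z) := by
  funext j
  rw [act_apply, act_apply]
  refine Finset.sum_congr rfl fun l _ => ?_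
  rw [Pi.smul_apply, mul_comm, mul_smul]

variable {P : Pole G}

/-- The local structures. -/
theorem nonempty_loc (hC : Cartier P) {T : Frames G J M} {T' : Frames G J M'} (hT : IsTw P T T')
    {s : Set G.ι} (hs : s.Nonempty) :
    Nonempty (Loc (k := k) G.D G.F (sysZ (latN φ hφ T')) (sysZ (latN φ hφ T)) s) := by
  obtain ⟨i, hi⟩ := hs
  obtain ⟨C', h1, h2⟩ := T.exists_inv i
  refine ⟨⟨G.As s, G.Ns s, P.Ps s i, T.C i, C', h1, h2, P.le_Ps hi, G.f_mem s, G.h_mem s, ?_, ?_,
    hC.d_mem s i hi, ?_, ?_⟩⟩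
  · intro a x
    cases a with
    | ofNat a => exact mem_latN φ hφ T a hi x
    | negSucc a =>
      constructor
      · intro hx
        have hx' : x = 0 := hx
        refine ⟨0, fun j => Submodule.zero_mem _, ?_⟩
        rw [hx', act_zero]
      · rintro ⟨y, hy, rfl⟩
        have hy' : y = 0 := funext fun j => hy j
        rw [hy', act_zero]
        exact Submodule.zero_mem _
  · intro a x
    cases a with
    | ofNat a =>
      refine (mem_latN φ hφ T' a hi x).trans ?_
      have h3 : T'.C i = fun j c => (P.x i)⁻¹.1 * tw p (T.C i) j c := by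
        funext j c
        exact hT i j c
      rw [h3]
      constructor
      · rintro ⟨z, hz, rfl⟩
        refine ⟨(P.x i)⁻¹.1 • z, fun j => ?_, (act_smul _ _ _).symm⟩
        refine smul_mem_lat (Q := Subalgebra.toSubmodule (G.As s)) (fun q hq => ?_) a (hz j)
        rw [P.mem_Ps, ← mul_assoc, Units.mul_inv, one_mul]
        exact hq
      · rintro ⟨y, hy, rfl⟩
        refine ⟨(P.x i).1 • y, fun j => ?_, ?_⟩
        · exact smul_mem_lat (Q := P.Ps s i) (fun q hq => hq) a (hy j)
        · rw [act_smul, smul_smul, Units.inv_mul, one_smul]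
    | negSucc a =>
      constructor
      · intro hx
        have hx' : x = 0 := hx
        refine ⟨0, fun j => Submodule.zero_mem _, ?_⟩
        rw [hx', act_zero]
      · rintro ⟨y, hy, rfl⟩
        have hy' : y = 0 := funext fun j => hy j
        rw [hy', act_zero]
        exact Submodule.zero_mem _
  · intro a ha i' hi' y hy hdy
    rw [P.Ps_eq hi hi'] at hy ⊢
    exact hC.surj s i' hi' a ha y hy hdy
  · intro a ha i' hi' g hg z hz h
    rw [P.Ps_eq hi hi'] at hz
    exact hC.inj s i' hi' a ha g hg z hz h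

theorem sysZ_mono {W ι : Type*} [AddCommGroup W] [Module k W] {N : ℕ → Set ι → Submodule k W}
    (h : ∀ a, Monotone (N a)) (a : ℤ) : Monotone (sysZ N a) := by
  cases a with
  | ofNat a => exact h a
  | negSucc a => exact monotone_const

theorem sysZ_empty {W ι : Type*} [AddCommGroup W] [Module k W] {N : ℕ → Set ι → Submodule k W}
    (h : ∀ a, N a ∅ = ⊥) (a : ℤ) : sysZ N a ∅ = ⊥ := by
  cases a with
  | ofNat a => exact h a
  | negSucc a => rfl

open K912.Stair K912.Num K912.Dim

section Main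

variable [Fact p.Prime]

/-- The hypotheses of the staircase argument. -/
theorem hyp (hk : ∀ t : k, ∃ u : k, u ^ p = t) (hC : Cartier P) {T : Frames G J M}
    {T' : Frames G J M'} (hT : IsTw P T T') :
    haveI := G.charP
    Hyp (dJ G.D hk).toAddMonoidHom (sysZ (latN φ hφ T')) (sysZ (latN φ hφ T)) (ψJ (J := J) G.D) := by
  have := G.charP
  exact Twist.hyp (F := G.F) G.D hk (sysZ_mono (latN_mono φ hφ T')) (sysZ_mono (latN_mono φ hφ T))
    (sysZ_empty (latN_empty φ hφ T')) (sysZ_empty (latN_empty φ hφ T))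
    (fun s hs => nonempty_loc φ hφ hC hT hs)

theorem surj [CharP k p] (hk : ∀ t : k, ∃ u : k, u ^ p = t) (hC : Cartier P) {T : Frames G J M}
    {T' : Frames G J M'} (hT : IsTw P T T') (a : ℤ) (ha : a < p) :
    haveI := G.charP
    Surj (dJ G.D hk).toAddMonoidHom (sysZ (latN φ hφ T')) (sysZ (latN φ hφ T)) (ψJ (J := J) G.D) a := by
  have := G.charP
  exact Twist.surj (F := G.F) G.D hk G.hF G.hFι (fun s hs => nonempty_loc φ hφ hC hT hs) a ha

theorem inj [CharP k p] (hk : ∀ t : k, ∃ u : k, u ^ p = t) (hC : Cartier P) {T : Frames G J M}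
    {T' : Frames G J M'} (hT : IsTw P T T') (a : ℤ) (ha : a < p) :
    haveI := G.charP
    Inj (dJ G.D hk).toAddMonoidHom (sysZ (latN φ hφ T')) (sysZ (latN φ hφ T)) (ψJ (J := J) G.D) a := by
  have := G.charP
  exact Twist.inj (F := G.F) G.D hk G.hF G.hFι (fun s hs => nonempty_loc φ hφ hC hT hs) a ha

omit [Fact p.Prime] in
theorem acyc (G : Geo p k X E n) {N : X.Modules} (hN : Coh.IsQCoh N) :
    AcycM (fun i => (G.U i).1) N := by
  refine acycM _ _ (fun s hs => ?_) hN
  exact G.aff s hs

omit [Fact p.Prime] in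
theorem rho_injective (T : Frames G J M) (a : ℕ) (q : ℕ) (i : Fin (q + 1) → G.ι) :
    Function.Injective (rho k (CohB1.tensorMod (La a) M)
      (phik (φ a) G.V₀ T.μ (tau_bij φ hφ T a) k) (le_iInf_U (fun i => (G.U i).1) G.le i)) := by
  have h1 := G.aff (Set.range i) (Set.range_nonempty i)
  have h3 := G.inj (Set.range i) (Set.range_nonempty i)
  have h2 : Us (fun i => (G.U i).1) (Set.range i) = ⨅ j, (G.U (i j)).1 := by
    rw [Us, iInf_range]
  have haff : IsAffineOpen (⨅ j, (G.U (i j)).1) := by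
    rwa [h2] at h1
  have hρ : Function.Injective (resO X (le_iInf_U (fun i => (G.U i).1) G.le i)) := by
    have key : ∀ (V : X.Opens) (hV : G.V₀.1 ≤ V), V = ⨅ j, (G.U (i j)).1 →
        Function.Injective (resO X hV) →
        Function.Injective (resO X (le_iInf_U (fun i => (G.U i).1) G.le i)) := by
      rintro _ hV rfl h
      exact h
    exact key _ _ h2 h3
  exact rho_phik_injective (φ a) G.V₀ T.μ (tau_bij φ hφ T a) k (U := G.U (i 0))
    (V := ⟨_, haff⟩) (iInf_le (fun j => (G.U (i j)).1) 0) (le_iInf_U (fun i => (G.U i).1) G.le i) hρ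
    (hφ a) (G.hb (i 0)) (T.hm (i 0))

end Main

end K912.Asm
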