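import Groth.Agent.Ega3B.CechNatural
import Groth.Agent.CohqA.CechBasic
import Groth.Agent.CohqA.CechSheaf

/-!
# Natural description of cohomology classes by Čech cocycles

For a covering `U` of a space and abelian sheaves acyclic on all finite intersections we get surjections
`Θ F : {Čech p-cocycles of F} → H^p(X, F)` with kernel the coboundaries, natural in the sheaf `F`.
-/

set_option autoImplicit false

universe u

open CategoryTheory CategoryTheory.Limits AlgebraicGeometry Opposite TopologicalSpace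
open Groth.Agent.CohqA.CechBasic Groth.Agent.CohqA.CechSheaf

namespace K912.CechCmp

section Ab

variable (S : ShortComplex Ab.{u})

/-- The class of a cycle. -/
noncomputable def pi : AddMonoidHom.ker S.g.hom →+ S.homology :=
  (S.abCyclesIso.inv ≫ S.homologyπ).hom

theorem pi_surjective : Function.Surjective (pi S) :=
  (AddCommGrpCat.epi_iff_surjective (S.abCyclesIso.inv ≫ S.homologyπ)).1 inferInstance

theorem pi_eq_zero_iff (x : AddMonoidHom.ker S.g.hom) : pi S x = 0 ↔ ∃ y : S.X₁, S.f y = x.1 := by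
  have h1 : (S.abCyclesIso.inv ≫ S.homologyπ) ≫ S.abLeftHomologyData.homologyIso.hom =
      S.abLeftHomologyData.π := by
    rw [Category.assoc, ShortComplex.LeftHomologyData.homologyπ_comp_homologyIso_hom]
    exact S.abLeftHomologyData.cyclesIso.inv_hom_id_assoc _
  have h2 : S.abLeftHomologyData.homologyIso.hom (pi S x) = S.abLeftHomologyData.π x :=
    congrArg (fun f => f x) h1
  have h3 : pi S x = 0 ↔ S.abLeftHomologyData.homologyIso.hom (pi S x) = 0 := by
    constructor
    · intro h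
      rw [h, map_zero]
    · intro h
      have h4 := congrArg S.abLeftHomologyData.homologyIso.inv h
      rw [map_zero, Iso.hom_inv_id_apply] at h4
      exact h4
  rw [h3, h2]
  change (QuotientAddGroup.mk x : (AddMonoidHom.ker S.g.hom) ⧸ AddMonoidHom.range S.abToCycles) = 0 ↔ _
  rw [QuotientAddGroup.eq_zero_iff, AddMonoidHom.mem_range]
  constructor
  · rintro ⟨y, hy⟩
    exact ⟨y, congrArg Subtype.val hy⟩
  · rintro ⟨y, hy⟩
    exact ⟨y, Subtype.ext hy⟩

theorem iCycles_inv (x : AddMonoidHom.ker S.g.hom) : S.iCycles (S.abCyclesIso.inv x) = x.1 :=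
  S.abCyclesIso_inv_apply_iCycles x

variable {S}

theorem pi_map {S' : ShortComplex Ab.{u}} (φ : S ⟶ S') (x : AddMonoidHom.ker S.g.hom)
    (x' : AddMonoidHom.ker S'.g.hom) (h : φ.τ₂ x.1 = x'.1) :
    ShortComplex.homologyMap φ (pi S x) = pi S' x' := by
  have h1 : ShortComplex.cyclesMap φ (S.abCyclesIso.inv x) = S'.abCyclesIso.inv x' := by
    apply (AddCommGrpCat.mono_iff_injective S'.iCycles).1 inferInstance
    rw [iCycles_inv, ← h]
    have h2 := congrArg (fun f => f (S.abCyclesIso.inv x)) (ShortComplex.cyclesMap_i φ)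
    refine Eq.trans h2 ?_
    change φ.τ₂ (S.iCycles (S.abCyclesIso.inv x)) = _
    rw [iCycles_inv]
  have h3 := congrArg (fun f => f (S.abCyclesIso.inv x)) (ShortComplex.homologyπ_naturality φ)
  change ShortComplex.homologyMap φ (S.homologyπ (S.abCyclesIso.inv x)) =
    S'.homologyπ (ShortComplex.cyclesMap φ (S.abCyclesIso.inv x)) at h3
  rw [h1] at h3
  exact h3

end Ab

section Cx

variable (K : CochainComplex Ab.{u} ℕ) (p : ℕ)

theorem sc_g_eq_zero (x : K.X p) : (K.sc p).g x = 0 ↔ K.d p (p + 1) x = 0 := by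
  have h : ∀ j, j = p + 1 → (K.d p j x = 0 ↔ K.d p (p + 1) x = 0) := by
    rintro _ rfl
    rfl
  exact h _ (by simp)

theorem sc_f_succ (x : K.X (p + 1)) :
    (∃ y : (K.sc (p + 1)).X₁, (K.sc (p + 1)).f y = x) ↔ ∃ y : K.X p, K.d p (p + 1) y = x := by
  have h : ∀ j, j = p → ((∃ y : K.X j, K.d j (p + 1) y = x) ↔ ∃ y : K.X p, K.d p (p + 1) y = x) := by
    rintro _ rfl
    rfl
  exact h _ (by simp)

theorem sc_f_zero (x : K.X 0) : (∃ y : (K.sc 0).X₁, (K.sc 0).f y = x) ↔ x = 0 := by
  have h0 : (K.sc 0).f = 0 := K.shape _ _ (by simp)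
  constructor
  · rintro ⟨y, rfl⟩
    rw [h0]
    rfl
  · rintro rfl
    exact ⟨0, map_zero _⟩

end Cx

variable {X : TopCat.{u}} {ι : Type u} (U : ι → Opens X)

/-- The group of Čech cocycles. -/
noncomputable abbrev Z (F : TopCat.Presheaf AddCommGrpCat.{u} X) (p : ℕ) : AddSubgroup (Cochain U F p) :=
  (dC U F p).ker

/-- Čech coboundaries. -/
def IsB (F : TopCat.Presheaf AddCommGrpCat.{u} X) : ∀ p : ℕ, Cochain U F p → Prop
  | 0 => fun c => c = 0
  | p + 1 => fun c => ∃ b, dC U F p b = c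

/-- The complex. -/
noncomputable abbrev CK (F : TopCat.Presheaf AddCommGrpCat.{u} X) : CochainComplex Ab.{u} ℕ :=
  (cechComplexFunctor (A := AddCommGrpCat.{u}) U).obj F

theorem CK_d (F : TopCat.Presheaf AddCommGrpCat.{u} X) (p : ℕ) (c : Cochain U F p) :
    (CK U F).d p (p + 1) ((equivX U F p).symm c) = (equivX U F (p + 1)).symm (dC U F p c) := by
  refine ((equivX U F (p + 1)).eq_symm_apply).2 ?_
  refine (equivX_CXd U F p ((equivX U F p).symm c)).trans ?_
  rw [AddEquiv.apply_symm_apply]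

/-- The cocycle in Mathlib's complex. -/
noncomputable def toKer (F : TopCat.Presheaf AddCommGrpCat.{u} X) (p : ℕ) :
    Z U F p →+ AddMonoidHom.ker ((CK U F).sc p).g.hom where
  toFun c := ⟨(equivX U F p).symm c.1, (sc_g_eq_zero (CK U F) p _).2 (by
    rw [CK_d, (show dC U F p c.1 = 0 from c.2)]
    exact map_zero _)⟩
  map_zero' := Subtype.ext (map_zero (equivX U F p).symm)
  map_add' a b := Subtype.ext (map_add (equivX U F p).symm a.1 b.1)

theorem toKer_surjective (F : TopCat.Presheaf AddCommGrpCat.{u} X) (p : ℕ) :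
    Function.Surjective (toKer U F p) := by
  intro x
  have hx : (CK U F).d p (p + 1) x.1 = 0 := (sc_g_eq_zero (CK U F) p _).1 x.2
  refine ⟨⟨equivX U F p x.1, ?_⟩, Subtype.ext ((equivX U F p).symm_apply_apply x.1)⟩
  change dC U F p (equivX U F p x.1) = 0
  rw [← equivX_CXd]
  have h1 : CXd U F p x.1 = 0 := hx
  rw [h1, map_zero]

/-- The class of a cocycle in the homology of Mathlib's Čech complex. -/
noncomputable def toH (F : TopCat.Presheaf AddCommGrpCat.{u} X) (p : ℕ) :
    Z U F p →+ (CK U F).homology p := (pi ((CK U F).sc p)).comp (toKer U F p)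

theorem toH_surjective (F : TopCat.Presheaf AddCommGrpCat.{u} X) (p : ℕ) :
    Function.Surjective (toH U F p) := (pi_surjective _).comp (toKer_surjective U F p)

theorem toH_eq_zero_iff (F : TopCat.Presheaf AddCommGrpCat.{u} X) (p : ℕ) (c : Z U F p) :
    toH U F p c = 0 ↔ IsB U F p c.1 := by
  refine (pi_eq_zero_iff _ _).trans ?_
  change (∃ y : ((CK U F).sc p).X₁, ((CK U F).sc p).f y = (equivX U F p).symm c.1) ↔ _
  cases p with
  | zero =>
    refine (sc_f_zero (CK U F) _).trans ?_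
    constructor
    · intro h
      exact (map_eq_zero_iff _ (equivX U F 0).symm.injective).1 h
    · intro h
      have h' : c.1 = 0 := h
      rw [h']
      exact map_zero (equivX U F 0).symm
  | succ p =>
    refine (sc_f_succ (CK U F) p _).trans ?_
    constructor
    · rintro ⟨y, hy⟩
      refine ⟨equivX U F p y, ?_⟩
      rw [← equivX_CXd]
      have h1 : CXd U F p y = (equivX U F (p + 1)).symm c.1 := hy
      rw [h1, AddEquiv.apply_symm_apply]
    · rintro ⟨b, hb⟩
      refine ⟨(equivX U F p).symm b, ?_⟩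
      rw [CK_d, hb]

variable {F G : TopCat.Presheaf AddCommGrpCat.{u} X}

theorem mapC_ker (φ : F ⟶ G) (p : ℕ) (c : Z U F p) : mapC U φ p c.1 ∈ Z U G p := by
  change dC U G p (mapC U φ p c.1) = 0
  rw [← mapC_dC, (show dC U F p c.1 = 0 from c.2), map_zero]

theorem map_f (φ : F ⟶ G) (p : ℕ) : ((cechComplexFunctor (A := AddCommGrpCat.{u}) U).map φ).f p =
    (Limits.Pi.map fun i : Fin (p + 1) → ι => φ.app (op (∏ᶜ (U ∘ i))) : CX U F p ⟶ CX U G p) := rfl

theorem map_f_apply (φ : F ⟶ G) (p : ℕ) (x : CX U F p) :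
    equivX U G p ((Limits.Pi.map fun i : Fin (p + 1) → ι => φ.app (op (∏ᶜ (U ∘ i))) :
      CX U F p ⟶ CX U G p) x) = mapC U φ p (equivX U F p x) := by
  funext i
  rw [equivX_apply, mapC_apply, equivX_apply, app_res]
  congr 1
  exact congrArg (fun f => f x) (Limits.Pi.map_π (fun i : Fin (p + 1) → ι => φ.app (op (∏ᶜ (U ∘ i)))) i)

theorem toH_map (φ : F ⟶ G) (p : ℕ) (c : Z U F p) :
    HomologicalComplex.homologyMap ((cechComplexFunctor (A := AddCommGrpCat.{u}) U).map φ) p
      (toH U F p c) = toH U G p ⟨mapC U φ p c.1, mapC_ker U φ p c⟩ := by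
  refine pi_map _ _ _ ?_
  change ((cechComplexFunctor (A := AddCommGrpCat.{u}) U).map φ).f p ((equivX U F p).symm c.1) =
    (equivX U G p).symm (mapC U φ p c.1)
  refine ((equivX U G p).eq_symm_apply).2 ?_
  refine (map_f_apply U φ p _).trans ?_
  rw [AddEquiv.apply_symm_apply]

/-- The sheaves which are acyclic on all finite intersections. -/
def Acyc (U : ι → Opens X) : ObjectProperty (Sheaf (Opens.grothendieckTopology X) AddCommGrpCat.{u}) :=
  fun F => ∀ (n : ℕ) (s : Fin (n + 1) → ι) (q : ℕ), 0 < q → Subsingleton (Sheaf.H' F q (⨅ i, U (s i)))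

/-- **Natural description of cohomology by Čech cocycles.** -/
theorem exists_theta (hU : ⨆ i, U i = ⊤) (p : ℕ) :
    ∃ Θ : ∀ F : Sheaf (Opens.grothendieckTopology X) AddCommGrpCat.{u}, Acyc U F →
      (Z U F.obj p →+ Sheaf.H F p),
      (∀ F hF, Function.Surjective (Θ F hF)) ∧
      (∀ F hF c, Θ F hF c = 0 ↔ IsB U F.obj p c.1) ∧
      (∀ F G hF hG (φ : F ⟶ G) c, Sheaf.H.map φ p (Θ F hF c) =
        Θ G hG ⟨mapC U φ.hom p c.1, mapC_ker U φ.hom p c⟩) := by
  let E := Groth.Agent.Ega3B.CechNatural.topCechIso U hU (Acyc U).ι (fun j => j.2) p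
  refine ⟨fun F hF => (E.hom.app ⟨F, hF⟩).hom.comp (toH U F.obj p), fun F hF => ?_, fun F hF c => ?_,
    fun F G hF hG φ c => ?_⟩
  · have h1 : Function.Surjective (E.hom.app ⟨F, hF⟩).hom :=
      (AddCommGrpCat.epi_iff_surjective (E.hom.app ⟨F, hF⟩)).1 inferInstance
    exact h1.comp (toH_surjective U F.obj p)
  · rw [← toH_eq_zero_iff]
    have h1 : Function.Injective (E.hom.app ⟨F, hF⟩).hom :=
      (AddCommGrpCat.mono_iff_injective (E.hom.app ⟨F, hF⟩)).1 inferInstance
    exact map_eq_zero_iff _ h1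
  · have h1 := E.hom.naturality (X := ⟨F, hF⟩) (Y := ⟨G, hG⟩) (ObjectProperty.homMk φ)
    have h2 := congrArg (fun f => f (toH U F.obj p c)) h1
    refine Eq.trans (Eq.symm ?_) (Eq.trans h2.symm ?_)
    · rfl
    · exact congrArg (E.hom.app ⟨G, hG⟩).hom (toH_map U φ.hom p c)

/-- The chosen natural description of cohomology by Čech cocycles. -/
noncomputable def Theta (hU : ⨆ i, U i = ⊤) (p : ℕ) :
    ∀ F : Sheaf (Opens.grothendieckTopology X) AddCommGrpCat.{u}, Acyc U F →
      (Z U F.obj p →+ Sheaf.H F p) := Classical.choose (exists_theta U hU p)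

theorem Theta_surjective (hU : ⨆ i, U i = ⊤) (p : ℕ) (F) (hF : Acyc U F) :
    Function.Surjective (Theta U hU p F hF) := (Classical.choose_spec (exists_theta U hU p)).1 F hF

theorem Theta_eq_zero_iff (hU : ⨆ i, U i = ⊤) (p : ℕ) (F) (hF : Acyc U F) (c) :
    Theta U hU p F hF c = 0 ↔ IsB U F.obj p c.1 :=
  (Classical.choose_spec (exists_theta U hU p)).2.1 F hF c

theorem Theta_map (hU : ⨆ i, U i = ⊤) (p : ℕ) (F G) (hF : Acyc U F) (hG : Acyc U G) (φ : F ⟶ G) (c) :
    Sheaf.H.map φ p (Theta U hU p F hF c) = Theta U hU p G hG ⟨mapC U φ.hom p c.1, mapC_ker U φ.hom p c⟩ :=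
  (Classical.choose_spec (exists_theta U hU p)).2.2 F G hF hG φ c

end K912.CechCmp
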