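import Groth.Agent.DelIll.K912.Stair
import Mathlib.LinearAlgebra.Dimension.Constructions
import Mathlib.LinearAlgebra.Dimension.Finite
import Mathlib.LinearAlgebra.FiniteDimensional.Lemmas
import Mathlib.LinearAlgebra.Quotient.Basic
import Mathlib.LinearAlgebra.FreeModule.Finite.Quotient

/-!
# Dimensions of the cohomology of the total Čech complex
-/

set_option autoImplicit false

namespace K912.Dim

open K912.Seq K912.Cx K912.Stair

section Abs

variable {k V : Type*} [Field k] [AddCommGroup V] [Module k V]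

/-- Cycles modulo boundaries. -/
abbrev Hq (Z B : Submodule k V) : Type _ := ↥Z ⧸ B.submoduleOf Z

/-- The class of a cycle. -/
abbrev cls (Z B : Submodule k V) (z : V) (hz : z ∈ Z) : Hq Z B := Submodule.Quotient.mk ⟨z, hz⟩

theorem cls_eq_zero {Z B : Submodule k V} {z : V} {hz : z ∈ Z} : cls Z B z hz = 0 ↔ z ∈ B := by
  rw [cls, Submodule.Quotient.mk_eq_zero]
  rfl

theorem exists_cls {Z B : Submodule k V} (x : Hq Z B) : ∃ (z : V) (hz : z ∈ Z), cls Z B z hz = x := by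
  obtain ⟨⟨z, hz⟩, rfl⟩ := Submodule.Quotient.mk_surjective _ x
  exact ⟨z, hz, rfl⟩

variable {V' : Type*} [AddCommGroup V'] [Module k V']

/-- The map induced by a linear map. -/
def Hmap {Z B : Submodule k V} {Z' B' : Submodule k V'} (f : V →ₗ[k] V')
    (hZ : ∀ z ∈ Z, f z ∈ Z') (hB : ∀ z ∈ Z, z ∈ B → f z ∈ B') : Hq Z B →ₗ[k] Hq Z' B' :=
  Submodule.mapQ _ _ (f.restrict hZ) (fun z hz => hB z.1 z.2 hz)

theorem Hmap_cls {Z B : Submodule k V} {Z' B' : Submodule k V'} (f : V →ₗ[k] V')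
    (hZ : ∀ z ∈ Z, f z ∈ Z') (hB : ∀ z ∈ Z, z ∈ B → f z ∈ B') (z : V) (hz : z ∈ Z) :
    Hmap f hZ hB (cls Z B z hz) = cls Z' B' (f z) (hZ z hz) := rfl

theorem exact3_finite {V₁ V₂ V₃ : Type*} [AddCommGroup V₁] [Module k V₁] [AddCommGroup V₂]
    [Module k V₂] [AddCommGroup V₃] [Module k V₃] [Module.Finite k V₁] [Module.Finite k V₃]
    (f : V₁ →ₗ[k] V₂) (g : V₂ →ₗ[k] V₃) (h : LinearMap.ker g ≤ LinearMap.range f) :
    Module.Finite k V₂ := by
  have h1 : (LinearMap.ker g).FG := by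
    have : Module.Finite k (LinearMap.range f) := inferInstance
    have h2 : Module.Finite k (LinearMap.ker g) :=
      Module.Finite.of_injective (Submodule.inclusion h) (Submodule.inclusion_injective h)
    exact Module.Finite.iff_fg.1 h2
  refine ⟨Submodule.fg_of_fg_map_of_fg_inf_ker g ?_ ?_⟩
  · rw [Submodule.map_top]
    exact Module.Finite.iff_fg.1 inferInstance
  · rw [top_inf_eq]
    exact h1

theorem exact3_finrank {V₁ V₂ V₃ : Type*} [AddCommGroup V₁] [Module k V₁] [AddCommGroup V₂]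
    [Module k V₂] [AddCommGroup V₃] [Module k V₃] [Module.Finite k V₁] [Module.Finite k V₃]
    (f : V₁ →ₗ[k] V₂) (g : V₂ →ₗ[k] V₃) (h : LinearMap.ker g ≤ LinearMap.range f) :
    Module.finrank k V₂ ≤ Module.finrank k V₁ + Module.finrank k V₃ ∧
      (Module.finrank k V₁ + Module.finrank k V₃ ≤ Module.finrank k V₂ → Function.Surjective g) := by
  have hfin := exact3_finite f g h
  have h1 := LinearMap.finrank_range_add_finrank_ker g
  have h2 : Module.finrank k (LinearMap.range g) ≤ Module.finrank k V₃ := Submodule.finrank_le _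
  have h3 : Module.finrank k (LinearMap.ker g) ≤ Module.finrank k (LinearMap.range f) :=
    Submodule.finrank_mono h
  have h4 : Module.finrank k (LinearMap.range f) ≤ Module.finrank k V₁ := LinearMap.finrank_range_le f
  refine ⟨by omega, fun h5 => ?_⟩
  rw [← LinearMap.range_eq_top]
  exact Submodule.eq_top_of_finrank_eq (by omega)

end Abs

variable {k W ι : Type*} [Field k] [AddCommGroup W] [Module k W]

/-- The `k`-linear Čech differential. -/
def δl (n : ℕ) : ((ℕ → ι) → W) →ₗ[k] ((ℕ → ι) → W) where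
  toFun := δ n
  map_add' := δ_add n
  map_smul' := δ_smul n

/-- The `k`-linear total differential. -/
def Dl (d : W →ₗ[k] W) : T ι W →ₗ[k] T ι W where
  toFun := D d.toAddMonoidHom
  map_add' := D_add _
  map_smul' t x := D_smul d.toAddMonoidHom t (fun w => d.map_smul t w) x

/-- Čech cocycles. -/
def Zc (N : Set ι → Submodule k W) (q : ℕ) : Submodule k ((ℕ → ι) → W) :=
  Coch N q ⊓ LinearMap.ker (δl (k := k) q)

/-- Čech coboundaries. -/
def Bc (N : Set ι → Submodule k W) : ℕ → Submodule k ((ℕ → ι) → W)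
  | 0 => ⊥
  | q + 1 => (Coch N q).map (δl (k := k) q)

theorem mem_Zc {N : Set ι → Submodule k W} {q : ℕ} {c : (ℕ → ι) → W} :
    c ∈ Zc N q ↔ c ∈ Coch N q ∧ δ q c = 0 := Iff.rfl

theorem mem_Bc_succ {N : Set ι → Submodule k W} {q : ℕ} {c : (ℕ → ι) → W} :
    c ∈ Bc N (q + 1) ↔ ∃ b ∈ Coch N q, δ q b = c := Iff.rfl

theorem mem_Bc_zero {N : Set ι → Submodule k W} {c : (ℕ → ι) → W} : c ∈ Bc N 0 ↔ c = 0 := Iff.rfl

/-- Čech cohomology of a system of lattices. -/
abbrev Hc (N : Set ι → Submodule k W) (q : ℕ) : Type _ := Hq (Zc N q) (Bc N q)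

/-- Total cocycles. -/
def Zt (d : W →ₗ[k] W) (K : ℤ → Set ι → Submodule k W) (m : ℤ) : Submodule k (T ι W) :=
  Tot K m ⊓ LinearMap.ker (Dl d)

/-- Total coboundaries. -/
def Bt (d : W →ₗ[k] W) (K : ℤ → Set ι → Submodule k W) (m : ℤ) : Submodule k (T ι W) :=
  (Tot K (m - 1)).map (Dl d)

/-- Cohomology of the total complex. -/
abbrev Ht (d : W →ₗ[k] W) (K : ℤ → Set ι → Submodule k W) (m : ℤ) : Type _ :=
  Hq (Zt d K m) (Bt d K m)

theorem mem_Zt {d : W →ₗ[k] W} {K : ℤ → Set ι → Submodule k W} {m : ℤ} {x : T ι W} :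
    x ∈ Zt d K m ↔ x ∈ Tot K m ∧ D d.toAddMonoidHom x = 0 := Iff.rfl

theorem mem_Bt {d : W →ₗ[k] W} {K : ℤ → Set ι → Submodule k W} {m : ℤ} {x : T ι W} :
    x ∈ Bt d K m ↔ ∃ y ∈ Tot K (m - 1), D d.toAddMonoidHom y = x := Iff.rfl

open scoped Classical in
/-- The stupid filtration. -/
def Fil (K : ℤ → Set ι → Submodule k W) (j : ℤ) : ℤ → Set ι → Submodule k W :=
  fun a => if j ≤ a then K a else fun _ => ⊥

theorem Fil_ge {K : ℤ → Set ι → Submodule k W} {j a : ℤ} (h : j ≤ a) : Fil K j a = K a := if_pos h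

theorem Fil_lt {K : ℤ → Set ι → Submodule k W} {j a : ℤ} (h : a < j) : Fil K j a = fun _ => ⊥ :=
  if_neg (not_le.2 h)

theorem Fil_le (K : ℤ → Set ι → Submodule k W) (j a : ℤ) (s : Set ι) : Fil K j a s ≤ K a s := by
  by_cases h : j ≤ a
  · rw [Fil_ge h]
  · rw [Fil_lt (not_le.1 h)]
    exact bot_le

theorem Fil_succ_le (K : ℤ → Set ι → Submodule k W) (j a : ℤ) (s : Set ι) :
    Fil K (j + 1) a s ≤ Fil K j a s := by
  by_cases h : j + 1 ≤ a
  · rw [Fil_ge h, Fil_ge (by omega)]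
  · rw [Fil_lt (not_le.1 h)]
    exact bot_le

theorem Sys.fil {d : W →+ W} {K : ℤ → Set ι → Submodule k W} (hK : Sys d K) (j : ℤ) :
    Sys d (Fil K j) where
  mono a := by
    by_cases h : j ≤ a
    · rw [Fil_ge h]
      exact hK.mono a
    · rw [Fil_lt (not_le.1 h)]
      exact monotone_const
  neg a ha s := le_bot_iff.1 ((Fil_le K j a s).trans (hK.neg a ha s).le)
  d_mem a s w hw := by
    by_cases h : j ≤ a
    · rw [Fil_ge h] at hw
      rw [Fil_ge (by omega)]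
      exact hK.d_mem a s w hw
    · rw [Fil_lt (not_le.1 h)] at hw
      rw [(Submodule.mem_bot k).1 hw, map_zero]
      exact Submodule.zero_mem _

theorem Tot_mono {K K' : ℤ → Set ι → Submodule k W} (h : ∀ a s, K a s ≤ K' a s) (m : ℤ) :
    Tot K m ≤ Tot K' m := fun _ hx n => Coch_mono (h _) n (hx n)

theorem Fil_zero {d : W →+ W} {K : ℤ → Set ι → Submodule k W} (hK : Sys d K) : Fil K 0 = K := by
  funext a s
  by_cases h : 0 ≤ a
  · rw [Fil_ge h]
  · rw [Fil_lt (not_le.1 h), hK.neg a (not_le.1 h)]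

variable (d : W →ₗ[k] W) {K : ℤ → Set ι → Submodule k W}

/-- The inclusion of the next step of the filtration. -/
def incl (K : ℤ → Set ι → Submodule k W) (j m : ℤ) : Ht d (Fil K (j + 1)) m →ₗ[k] Ht d (Fil K j) m :=
  Hmap LinearMap.id (fun z hz => ⟨Tot_mono (Fil_succ_le K j) m hz.1, hz.2⟩)
    (fun z _ hz => by
      obtain ⟨y, hy, rfl⟩ := hz
      exact ⟨y, Tot_mono (Fil_succ_le K j) _ hy, rfl⟩)

/-- The projection to the Čech cohomology of the lowest term. -/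
def proj (K : ℤ → Set ι → Submodule k W) (j m : ℤ) (q : ℕ) (hq : m - q = j) :
    Ht d (Fil K j) m →ₗ[k] Hc (K j) q :=
  Hmap (LinearMap.proj q) (fun z hz => by
    obtain ⟨hz1, hz2⟩ := mem_Zt.1 hz
    have h1 := hz1 q
    rw [hq, Fil_ge le_rfl] at h1
    refine mem_Zc.2 ⟨h1, ?_⟩
    funext i
    have h2 : δ q (z q) i + (-1 : ℤ) ^ (q + 1) • d.toAddMonoidHom (z (q + 1) i) = 0 :=
      congrFun (congrFun hz2 (q + 1)) i
    have h3 := (hz1 (q + 1)).2 i
    rw [Fil_lt (by push_cast; omega)] at h3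
    rw [(Submodule.mem_bot k).1 h3, map_zero, smul_zero, add_zero] at h2
    exact h2)
    (fun z _ hz => by
      obtain ⟨y, hy, rfl⟩ := mem_Bt.1 hz
      change D d.toAddMonoidHom y q ∈ Bc (K j) q
      cases q with
      | zero =>
        rw [mem_Bc_zero]
        funext i
        rw [D_zero_apply]
        have h1 := (hy 0).2 i
        rw [Fil_lt (by push_cast at hq ⊢; omega)] at h1
        rw [(Submodule.mem_bot k).1 h1, map_zero]
        rfl
      | succ q =>
        rw [mem_Bc_succ]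
        refine ⟨y q, ?_, ?_⟩
        · have h1 := hy q
          have e : m - 1 - (q : ℤ) = j := by push_cast at hq; omega
          rwa [e, Fil_ge le_rfl] at h1
        · funext i
          rw [D_succ_apply]
          have h1 := (hy (q + 1)).2 i
          rw [Fil_lt (by push_cast at hq ⊢; omega)] at h1
          rw [(Submodule.mem_bot k).1 h1, map_zero, smul_zero, add_zero])

theorem proj_cls (j m : ℤ) (q : ℕ) (hq : m - q = j) (z : T ι W)
    (hz : z ∈ Zt d (Fil K j) m) :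
    ∃ h, proj d K j m q hq (cls _ _ z hz) = cls (Zc (K j) q) (Bc (K j) q) (z q) h := ⟨_, rfl⟩

theorem ker_proj_le (hK : Sys d.toAddMonoidHom K) (hdd : ∀ w, d (d w) = 0) (j m : ℤ) (q : ℕ)
    (hq : m - q = j) :
    LinearMap.ker (proj d K j m q hq) ≤ LinearMap.range (incl d K j m) := by
  intro x hx
  obtain ⟨z, hz, rfl⟩ := exists_cls x
  have hx' : z q ∈ Bc (K j) q := cls_eq_zero.1 hx
  -- it suffices to find a cohomologous element with vanishing `q`-component
  suffices h : ∃ y ∈ Tot (Fil K j) (m - 1), (z - D d.toAddMonoidHom y) q = 0 by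
    obtain ⟨y, hy, hy'⟩ := h
    obtain ⟨hz1, hz2⟩ := mem_Zt.1 hz
    have hDy : D d.toAddMonoidHom y ∈ Tot (Fil K j) m := by
      have := D_mem (Sys.fil hK j) hy
      rwa [sub_add_cancel] at this
    have hmem : z - D d.toAddMonoidHom y ∈ Zt d (Fil K (j + 1)) m := by
      refine mem_Zt.2 ⟨fun n => ?_, ?_⟩
      · have h1 := Submodule.sub_mem _ hz1 hDy n
        rcases lt_trichotomy n q with hn | hn | hn
        · rw [Fil_ge (by omega)] at h1 ⊢
          exact h1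
        · subst hn
          rw [hy']
          exact Submodule.zero_mem _
        · rw [Fil_lt (by omega)] at h1 ⊢
          exact h1
      · rw [D_sub, hz2, D_D _ hdd, sub_zero]
    refine ⟨cls _ _ _ hmem, ?_⟩
    rw [← sub_eq_zero]
    have e : incl d K j m (cls _ _ _ hmem) - cls _ _ z hz =
        cls (Zt d (Fil K j) m) (Bt d (Fil K j) m) (z - D d.toAddMonoidHom y - z)
          (Submodule.sub_mem _ (mem_Zt.2 ⟨Submodule.sub_mem _ hz1 hDy, by
            rw [D_sub, hz2, D_D _ hdd, sub_zero]⟩) hz) := rfl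
    rw [e, cls_eq_zero]
    refine mem_Bt.2 ⟨-y, Submodule.neg_mem _ hy, ?_⟩
    rw [D_neg]
    abel
  cases q with
  | zero =>
    refine ⟨0, Submodule.zero_mem _, ?_⟩
    rw [D_zero, sub_zero]
    exact mem_Bc_zero.1 hx'
  | succ q =>
    obtain ⟨b, hb, hb'⟩ := mem_Bc_succ.1 hx'
    have e : m - 1 - (q : ℤ) = j := by push_cast at hq; omega
    refine ⟨sing q b, sing_mem ?_, ?_⟩
    · rw [e, Fil_ge le_rfl]
      exact hb
    · funext i
      rw [Pi.sub_apply, Pi.sub_apply, D_succ_apply, sing_self, sing_ne (by omega), hb']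
      simp

/-- Finiteness and the dimension inequality for the steps of the stupid filtration. -/
theorem fil_finrank (hK : Sys d.toAddMonoidHom K) (hdd : ∀ w, d (d w) = 0) (m : ℕ)
    (hfin : ∀ a ≤ m, Module.Finite k (Hc (K (a : ℤ)) (m - a))) (r : ℕ) :
    ∀ j : ℕ, j + r = m + 1 → Module.Finite k (Ht d (Fil K j) m) ∧
      Module.finrank k (Ht d (Fil K j) m) ≤
        ∑ a ∈ Finset.Ico j (m + 1), Module.finrank k (Hc (K (a : ℤ)) (m - a)) := by
  induction r with
  | zero =>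
    intro j hj
    have hj' : j = m + 1 := by omega
    subst hj'
    have h0 : Subsingleton (Ht d (Fil K ((m + 1 : ℕ) : ℤ)) m) := by
      refine ⟨fun x y => ?_⟩
      obtain ⟨x, hx, rfl⟩ := exists_cls x
      obtain ⟨y, hy, rfl⟩ := exists_cls y
      have h1 : ∀ z ∈ Zt d (Fil K ((m + 1 : ℕ) : ℤ)) m, z = 0 := by
        intro z hz
        funext n i
        have := (hz.1 n).2 i
        rw [Fil_lt (by push_cast; omega)] at this
        exact this
      have hx0 := h1 x hx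
      have hy0 := h1 y hy
      subst hx0
      subst hy0
      rfl
    refine ⟨inferInstance, ?_⟩
    rw [Module.finrank_zero_of_subsingleton]
    exact Nat.zero_le _
  | succ r ih =>
    intro j hj
    obtain ⟨h1, h2⟩ := ih (j + 1) (by omega)
    have hq : (m : ℤ) - ((m - j : ℕ) : ℤ) = j := by rw [Nat.cast_sub (by omega)]; ring
    have := hfin j (by omega)
    have e : ((j + 1 : ℕ) : ℤ) = (j : ℤ) + 1 := by push_cast; ring
    rw [e] at h1 h2
    have h3 := exact3_finrank (incl d K j m) (proj d K j m (m - j) hq)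
      (ker_proj_le d hK hdd j m (m - j) hq)
    refine ⟨exact3_finite (incl d K j m) (proj d K j m (m - j) hq)
      (ker_proj_le d hK hdd j m (m - j) hq), ?_⟩
    rw [Finset.sum_eq_sum_Ico_succ_bot (by omega : j < m + 1)]
    omega

/-- The total complex: finiteness and the dimension inequality. -/
theorem finrank_Ht_le (hK : Sys d.toAddMonoidHom K) (hdd : ∀ w, d (d w) = 0) (m : ℕ)
    (hfin : ∀ a ≤ m, Module.Finite k (Hc (K (a : ℤ)) (m - a))) :
    Module.Finite k (Ht d K m) ∧ Module.finrank k (Ht d K m) ≤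
        ∑ a ∈ Finset.range (m + 1), Module.finrank k (Hc (K (a : ℤ)) (m - a)) := by
  have h := fil_finrank d hK hdd m hfin (m + 1) 0 (by omega)
  rw [Nat.cast_zero, Fil_zero hK] at h
  rwa [Finset.range_eq_Ico]

/-- If the dimension is maximal then every cocycle of the lowest term lifts to a total cocycle. -/
theorem exists_lift_of_finrank (hK : Sys d.toAddMonoidHom K) (hdd : ∀ w, d (d w) = 0) (m : ℕ)
    (hfin : ∀ a ≤ m, Module.Finite k (Hc (K (a : ℤ)) (m - a)))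
    (heq : ∑ a ∈ Finset.range (m + 1), Module.finrank k (Hc (K (a : ℤ)) (m - a)) ≤
      Module.finrank k (Ht d K m)) {c : (ℕ → ι) → W} (hc : c ∈ Zc (K 0) m) :
    ∃ x ∈ Tot K m, D d.toAddMonoidHom x = 0 ∧ c - x m ∈ Bc (K 0) m := by
  obtain ⟨h1, h2⟩ := fil_finrank d hK hdd m hfin m 1 (by omega)
  have hf0 : Module.Finite k (Hc (K 0) m) := by
    have := hfin 0 (Nat.zero_le m)
    rwa [Nat.cast_zero, Nat.sub_zero] at this
  have e1 : ((1 : ℕ) : ℤ) = 0 + 1 := by norm_num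
  rw [e1] at h1 h2
  have hq : (m : ℤ) - (m : ℕ) = 0 := by ring
  have h3 := (exact3_finrank (incl d K 0 m) (proj d K 0 m m hq)
      (ker_proj_le d hK hdd 0 m m hq)).2 (by
    rw [Fil_zero hK]
    refine le_trans ?_ heq
    rw [Finset.range_eq_Ico, Finset.sum_eq_sum_Ico_succ_bot (by omega : 0 < m + 1)]
    rw [Nat.cast_zero, Nat.sub_zero, Nat.zero_add 1]
    omega)
  obtain ⟨x, hx⟩ := h3 (cls _ _ c hc)
  obtain ⟨z, hz, rfl⟩ := exists_cls x
  obtain ⟨hz1, hz2⟩ := mem_Zt.1 hz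
  rw [Fil_zero hK] at hz1
  refine ⟨z, hz1, hz2, ?_⟩
  obtain ⟨h, h'⟩ := proj_cls d 0 m m hq z hz
  rw [h', ← sub_eq_zero] at hx
  have e2 : cls (Zc (K 0) m) (Bc (K 0) m) (z m) h - cls _ _ c hc =
      cls (Zc (K 0) m) (Bc (K 0) m) (z m - c) (Submodule.sub_mem _ h hc) := rfl
  rw [e2, cls_eq_zero] at hx
  have := Submodule.neg_mem _ hx
  rwa [neg_sub] at this

section Frob

variable {𝔾 : Type*} [AddCommGroup 𝔾] [Module k 𝔾] {G : ℤ → Set ι → Submodule k 𝔾}
  {ψ : 𝔾 →+ T ι W} {d} (h : Hyp d.toAddMonoidHom K G ψ)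

include h in
theorem sing_Psi_mem (m : ℕ) (q : Fin (m + 1)) {c : (ℕ → ι) → 𝔾}
    (hc : c ∈ Zc (G ((m : ℤ) - (q : ℕ))) q) : Psi ψ (sing q c) ∈ Zt d K m := by
  obtain ⟨h1, h2⟩ := mem_Zc.1 hc
  refine mem_Zt.2 ⟨Psi_mem h (sing_mem h1), ?_⟩
  rw [D_Psi_sing _ ψ h.closed _ h1.1, h2, sing_zero_eq, Psi_zero]

include h in
theorem sing_Psi_mem_B (m : ℕ) (q : Fin (m + 1)) {c : (ℕ → ι) → 𝔾}
    (hc : c ∈ Bc (G ((m : ℤ) - (q : ℕ))) q) : Psi ψ (sing q c) ∈ Bt d K m := by
  obtain ⟨q, hq⟩ := q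
  dsimp only at hc ⊢
  cases q with
  | zero =>
    rw [mem_Bc_zero.1 hc, sing_zero_eq, Psi_zero]
    exact Submodule.zero_mem _
  | succ q =>
    obtain ⟨b, hb, rfl⟩ := mem_Bc_succ.1 hc
    refine mem_Bt.2 ⟨Psi ψ (sing q b), Psi_mem h (sing_mem ?_), D_Psi_sing _ ψ h.closed q hb.1⟩
    have e : (m : ℤ) - 1 - q = (m : ℤ) - ((q + 1 : ℕ) : ℤ) := by push_cast; ring
    rw [e]
    exact hb

/-- The map from the Čech cohomology of `G` to the cohomology of the total complex, one summand. -/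
def Phi1 (m : ℕ) (q : Fin (m + 1)) : Hc (G ((m : ℤ) - (q : ℕ))) q →+ Ht d K m :=
  QuotientAddGroup.map _ _
    { toFun := fun c => ⟨Psi ψ (sing q c.1), sing_Psi_mem h m q c.2⟩
      map_zero' := by
        apply Subtype.ext
        change Psi ψ (sing q (0 : (ℕ → ι) → 𝔾)) = 0
        rw [sing_zero_eq, Psi_zero]
      map_add' := fun c c' => by
        apply Subtype.ext
        change Psi ψ (sing q (c.1 + c'.1)) = Psi ψ (sing q c.1) + Psi ψ (sing q c'.1)
        rw [← Psi_add]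
        congr 1
        funext n
        by_cases hn : n = q
        · rw [hn, Pi.add_apply, sing_self, sing_self, sing_self]
        · rw [Pi.add_apply, sing_ne hn, sing_ne hn, sing_ne hn, add_zero] }
    (fun c hc => sing_Psi_mem_B h m q hc)

theorem Phi1_cls (m : ℕ) (q : Fin (m + 1)) (c : (ℕ → ι) → 𝔾) (hc : c ∈ Zc (G ((m : ℤ) - (q : ℕ))) q) :
    Phi1 h m q (cls _ _ c hc) = cls (Zt d K m) (Bt d K m) (Psi ψ (sing q c)) (sing_Psi_mem h m q hc) :=
  rfl

theorem Phi1_smul (m : ℕ) (q : Fin (m + 1)) (p : ℕ) (hp : ∀ (t : k) (g : 𝔾), ψ (t • g) = t ^ p • ψ g)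
    (t : k) (x : Hc (G ((m : ℤ) - (q : ℕ))) q) : Phi1 h m q (t • x) = t ^ p • Phi1 h m q x := by
  obtain ⟨c, hc, rfl⟩ := exists_cls x
  have e : Psi ψ (sing q (t • c)) = t ^ p • Psi ψ (sing q c) := by
    funext n i
    change Psi ψ (sing q (t • c)) n i = t ^ p • Psi ψ (sing q c) n i
    rw [Psi_sing, Psi_sing]
    split_ifs
    · rw [Pi.smul_apply, hp]
      rfl
    · rw [smul_zero]
  have h1 : t • cls (Zc (G ((m : ℤ) - (q : ℕ))) q) (Bc (G ((m : ℤ) - (q : ℕ))) q) c hc =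
    cls _ _ (t • c) (Submodule.smul_mem _ t hc) := rfl
  have h2 : t ^ p • cls (Zt d K m) (Bt d K m) (Psi ψ (sing q c)) (sing_Psi_mem h m q hc) =
    cls _ _ (t ^ p • Psi ψ (sing q c)) (Submodule.smul_mem _ _ (sing_Psi_mem h m q hc)) := rfl
  rw [h1, Phi1_cls, Phi1_cls, h2]
  congr 1

/-- The map from the sum of the Čech cohomologies of `G` to the cohomology of the total complex. -/
def Phi (m : ℕ) : (∀ q : Fin (m + 1), Hc (G ((m : ℤ) - (q : ℕ))) q) →+ Ht d K m :=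
  ∑ q : Fin (m + 1), (Phi1 h m q).comp (Pi.evalAddMonoidHom _ q)

theorem Phi_apply (m : ℕ) (x : ∀ q : Fin (m + 1), Hc (G ((m : ℤ) - (q : ℕ))) q) :
    Phi h m x = ∑ q, Phi1 h m q (x q) := by
  rw [Phi, AddMonoidHom.finsetSum_apply]
  rfl

theorem Phi_cls (m : ℕ) (c : Fin (m + 1) → (ℕ → ι) → 𝔾)
    (hc : ∀ q : Fin (m + 1), c q ∈ Zc (G ((m : ℤ) - (q : ℕ))) q) :
    ∃ hz, Phi h m (fun q => cls _ _ (c q) (hc q)) =
      cls (Zt d K m) (Bt d K m) (Psi ψ (∑ q : Fin (m + 1), sing (q : ℕ) (c q))) hz := by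
  have h1 : Psi ψ (∑ q : Fin (m + 1), sing (q : ℕ) (c q)) = ∑ q : Fin (m + 1), Psi ψ (sing (q : ℕ) (c q)) := Psi_sum ψ _ _
  have h2 : ∑ q : Fin (m + 1), Psi ψ (sing (q : ℕ) (c q)) ∈ Zt d K m :=
    Submodule.sum_mem _ fun q _ => sing_Psi_mem h m q (hc q)
  have h3 : Psi ψ (∑ q : Fin (m + 1), sing (q : ℕ) (c q)) ∈ Zt d K m := by rwa [h1]
  refine ⟨h3, ?_⟩
  rw [Phi_apply]
  have e : cls (Zt d K m) (Bt d K m) (Psi ψ (∑ q : Fin (m + 1), sing (q : ℕ) (c q))) h3 =
      Submodule.Quotient.mk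
        (∑ q : Fin (m + 1), ⟨Psi ψ (sing (q : ℕ) (c q)), sing_Psi_mem h m q (hc q)⟩) := by
    rw [cls]
    congr 1
    apply Subtype.ext
    rw [Submodule.coe_sum]
    exact h1
  rw [e]
  have h4 := map_sum ((Bt d K m).submoduleOf (Zt d K m)).mkQ
    (fun q : Fin (m + 1) => (⟨Psi ψ (sing (q : ℕ) (c q)), sing_Psi_mem h m q (hc q)⟩ : Zt d K m))
    Finset.univ
  exact h4.symm

theorem Phi_injective (m : ℕ) (hsurj : ∀ a ≤ (m : ℤ), Surj d.toAddMonoidHom K G ψ a)
    (hinj : ∀ a ≤ (m : ℤ), Inj d.toAddMonoidHom K G ψ a) : Function.Injective (Phi h m) := by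
  rw [injective_iff_map_eq_zero]
  intro x hx
  have hx' : ∀ q, ∃ (c : (ℕ → ι) → 𝔾) (hc : c ∈ Zc (G ((m : ℤ) - ((q : Fin (m + 1)) : ℕ))) q),
    cls _ _ c hc = x q := fun q => exists_cls (x q)
  choose c hc hcx using hx'
  have e : x = fun q => cls _ _ (c q) (hc q) := funext fun q => (hcx q).symm
  subst e
  obtain ⟨hz, h1⟩ := Phi_cls h m c hc
  rw [h1, cls_eq_zero] at hx
  obtain ⟨y, hy, hy'⟩ := mem_Bt.1 hx
  have hmem : ∑ q : Fin (m + 1), sing (q : ℕ) (c q) ∈ Tot G m :=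
    Submodule.sum_mem _ fun q _ => sing_mem (mem_Zc.1 (hc q)).1
  have hDG : DG (∑ q : Fin (m + 1), sing (q : ℕ) (c q)) = 0 := by
    have h2 : DG (∑ q : Fin (m + 1), sing (q : ℕ) (c q)) = ∑ q : Fin (m + 1), DG (sing (q : ℕ) (c q)) := D_sum _ _ _
    rw [h2]
    refine Finset.sum_eq_zero fun q _ => ?_
    rw [DG_sing, (mem_Zc.1 (hc q)).2, sing_zero_eq]
  obtain ⟨c', hc', hcc'⟩ := exists_of_exact h (fun a ha => hsurj a (by omega)) hinj hmem hDG hy hy'.symm
  funext q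
  change cls _ _ (c q) (hc q) = 0
  rw [cls_eq_zero]
  have h3 : (∑ q : Fin (m + 1), sing (q : ℕ) (c q)) q = c q := by
    rw [Finset.sum_apply, Finset.sum_eq_single q]
    · exact sing_self _ _
    · intro q' _ hq'
      exact sing_ne (fun hh => hq' (Fin.ext hh.symm)) _
    · intro hn
      exact absurd (Finset.mem_univ _) hn
  rw [← h3, hcc']
  obtain ⟨q, hq⟩ := q
  dsimp only
  cases q with
  | zero =>
    rw [mem_Bc_zero, DG_zero_apply]
  | succ q =>
    rw [DG_succ_apply, mem_Bc_succ]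
    refine ⟨c' q, ?_, rfl⟩
    have h4 := hc' q
    have e : (m : ℤ) - 1 - q = (m : ℤ) - ((q + 1 : ℕ) : ℤ) := by push_cast; ring
    rwa [e] at h4

/-- Every class in the total cohomology comes from `G`. -/
theorem Phi_surjective (m : ℕ) (hsurj : ∀ a ≤ (m : ℤ), Surj d.toAddMonoidHom K G ψ a)
    (hinj : ∀ a ≤ (m : ℤ), Inj d.toAddMonoidHom K G ψ a) : Function.Surjective (Phi h m) := by
  intro x
  obtain ⟨z, hz, rfl⟩ := exists_cls x
  obtain ⟨hz1, hz2⟩ := mem_Zt.1 hz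
  obtain ⟨c, hc, hDc, y, hy, hcy⟩ := exists_of_closed h hsurj hinj hz1 hz2
  have hcz : ∀ q : Fin (m + 1), c q ∈ Zc (G ((m : ℤ) - (q : ℕ))) q := fun q =>
    mem_Zc.2 ⟨hc q, by rw [← DG_succ_apply, hDc]; rfl⟩
  refine ⟨fun q => cls _ _ (c q) (hcz q), ?_⟩
  obtain ⟨hz', h1⟩ := Phi_cls h m (fun q => c q) hcz
  rw [h1, ← sub_eq_zero]
  have e : cls (Zt d K m) (Bt d K m) (Psi ψ (∑ q : Fin (m + 1), sing q (c q))) hz' - cls _ _ z hz =
      cls (Zt d K m) (Bt d K m) (Psi ψ (∑ q : Fin (m + 1), sing q (c q)) - z)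
        (Submodule.sub_mem _ hz' hz) := rfl
  rw [e, cls_eq_zero]
  have hc0 : ∑ q : Fin (m + 1), sing (q : ℕ) (c q) = c := by
    rw [Fin.sum_univ_eq_sum_range (fun q => sing q (c q))]
    funext n
    by_cases hn : n < m + 1
    · exact sum_sing_apply c hn
    · rw [eq_zero_of_gt h.sysG hc (by omega), Finset.sum_apply]
      exact Finset.sum_eq_zero fun q hq => sing_ne (by have := Finset.mem_range.1 hq; omega) _
  rw [hc0]
  refine mem_Bt.2 ⟨-y, Submodule.neg_mem _ hy, ?_⟩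
  rw [hcy, D_neg]
  abel

end Frob

end K912.Dim
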