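import Groth.Agent.DelIll.K912.LatCmp

/-!
# Surjectivity on cohomology by lattices
-/

set_option autoImplicit false

universe u

open CategoryTheory CategoryTheory.Limits AlgebraicGeometry Opposite TopologicalSpace
open Groth.Agent.CohqA.CechBasic Groth.Agent.CohqA.CechSheaf Groth.Agent.CurvesB.HZero
open Groth.Agent.Fga.MumCech
open K912.Seq K912.Dim K912.CechCmp K912.LatCmp

namespace K912.LatMap

variable (k : Type u) [Field k] {X : Scheme.{u}} [X.Over (Spec (CommRingCat.of k))]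

attribute [local instance] modP

variable {ι : Type u} (U : ι → X.Opens) {V₀ : X.Opens} (hV₀ : ∀ i, V₀ ≤ U i) {M M' : X.Modules}
  {W : Type*} [AddCommGroup W] [Module k W] (φ : M.presheaf.obj (op V₀) →ₗ[k] W)
  (φ' : M'.presheaf.obj (op V₀) →ₗ[k] W) (α : M' ⟶ M)
  (hα : ∀ m, φ (α.app V₀ m) = φ' m)

include hα in
theorem rho_map {V : X.Opens} (h : V₀ ≤ V) (m : M'.presheaf.obj (op V)) :
    rho k M φ h (α.app V m) = rho k M' φ' h m := by
  rw [rho_apply, rho_apply, ← hα]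
  congr 1
  exact (Groth.Agent.Fga.MumCech.app_res α h m).symm

include hα in
theorem toSeq_mapk (p : ℕ) (c : Cochain U M'.presheaf p) :
    toSeq k U hV₀ M φ p (mapk k U α p c) = toSeq k U hV₀ M' φ' p c := by
  funext i
  exact rho_map k φ φ' α hα _ _

include hα in
theorem Nl_le (s : Set ι) : Nl k U hV₀ M' φ' s ≤ Nl k U hV₀ M φ s := by
  rcases s.eq_empty_or_nonempty with rfl | hs
  · rw [Nl_empty]
    exact bot_le
  · rw [Nl_nonempty k U hV₀ M φ hs, Nl_nonempty k U hV₀ M' φ' hs]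
    rintro _ ⟨m, rfl⟩
    exact ⟨α.app _ m, rho_map k φ φ' α hα _ _⟩

include hα in
/-- **Surjectivity on cohomology from a statement on cocycles of lattices.** -/
theorem surjective_of_cocycles
    (hinj : ∀ (p : ℕ) (i : Fin (p + 1) → ι), Function.Injective (rho k M φ (le_iInf_U U hV₀ i)))
    (hinj' : ∀ (p : ℕ) (i : Fin (p + 1) → ι), Function.Injective (rho k M' φ' (le_iInf_U U hV₀ i)))
    (hU : ⨆ i, U i = ⊤) (hM : AcycM U M) (hM' : AcycM U M') (p : ℕ)
    (hsub : ∀ c ∈ Zc (Nl k U hV₀ M φ) p, ∃ c' ∈ Zc (Nl k U hV₀ M' φ') p,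
      c - c' ∈ Bc (Nl k U hV₀ M φ) p) :
    Function.Surjective (Sheaf.H.map ((SheafOfModules.toSheaf X.ringCatSheaf).map α) p) := by
  intro x
  obtain ⟨c, rfl⟩ := clsH_surjective k U M hU hM p x
  obtain ⟨c', hc', hcc'⟩ := hsub _ (toSeq_mem_Zc k U hV₀ M φ c.2)
  obtain ⟨b, rfl⟩ := toSeq_surj k U hV₀ M' φ' p hc'.1
  have hb : dk k U M' p b = 0 := by
    apply toSeq_injective k U hV₀ M' φ' hinj' (p + 1)
    refine (toSeq_dC k U hV₀ M' φ' p b).trans ?_
    rw [map_zero]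
    exact hc'.2
  refine ⟨clsH k U M' hU hM' p ⟨b, hb⟩, ?_⟩
  refine (clsH_map k U M' hU hM' hM p α ⟨b, hb⟩).trans ?_
  rw [← sub_eq_zero, ← map_sub, clsH_eq_zero_iff]
  rw [← toSeq_mem_Bc_iff k U hV₀ M φ hinj]
  have e : toSeq k U hV₀ M φ p (mapk k U α p b - c.1) =
      -(toSeq k U hV₀ M φ p c.1 - toSeq k U hV₀ M' φ' p b) := by
    rw [map_sub, toSeq_mapk k U hV₀ φ φ' α hα]
    abel
  have h2 := Submodule.neg_mem _ hcc'
  rw [← e] at h2
  exact h2

end K912.LatMap
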