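import Groth.Agent.Sga67.LocBasisOps
import Groth.Agent.Sga67.ExtSheaf
import Groth.Agent.Sga67.TensorOps
import Groth.Agent.DelIll.K912.LatMap
import Groth.Agent.DelIll.K912.Twist
import Mathlib.LinearAlgebra.TensorProduct.Pi

/-!
# Sections of `Λ^a E ⊗ M` over a small affine open as families of elements of an exterior algebra
-/

set_option autoImplicit false

universe u

open CategoryTheory CategoryTheory.Limits AlgebraicGeometry Opposite TopologicalSpace
open scoped TensorProduct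
open Groth.Agent.Sga67.Sec Groth.Agent.Sga67.LocBasis Groth.Agent.Sga67.ExtSheaf
open Groth.Agent.Fga.MumCech
open K912.Alt K912.Twist

namespace K912.Frame

section Alg

variable (k : Type u) [Field k] {X : Scheme.{u}} [X.Over (Spec (CommRingCat.of k))]

/-- The `k`-algebra structure on functions. -/
noncomputable abbrev algV (V : X.Opens) : Algebra k Γ(X, V) := (glV k V).toAlgebra

/-- The `k`-module structure on sections. -/
noncomputable abbrev modS (M : X.Modules) (V : X.Opens) : Module k (Sec M V) :=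
  Module.compHom (Sec M V) (glV k V)

attribute [local instance] algV modS

instance tower (M : X.Modules) (V : X.Opens) : IsScalarTower k Γ(X, V) (Sec M V) :=
  IsScalarTower.of_algebraMap_smul fun _ _ => rfl

end Alg

variable {X : Scheme.{u}} {E La M : X.Modules} {a : ℕ} (φ : Phi a E La) (V₀ : X.affineOpens)
  {J : Type*} [Fintype J] [DecidableEq J] (μ : Sec M V₀.1 ≃ₗ[Γ(X, V₀.1)] (J → Γ(X, V₀.1)))

/-- The map on the tensor product of sections. -/
noncomputable def pre : Sec La V₀.1 ⊗[Γ(X, V₀.1)] Sec M V₀.1 ≃ₗ[Γ(X, V₀.1)]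
    (J → ⋀[Γ(X, V₀.1)]^a (Sec E V₀.1)) :=
  (TensorProduct.congr (φ V₀) μ).trans
    (TensorProduct.piScalarRight Γ(X, V₀.1) Γ(X, V₀.1) (⋀[Γ(X, V₀.1)]^a (Sec E V₀.1)) J)

theorem pre_tmul (x : Sec La V₀.1) (m : Sec M V₀.1) (j : J) :
    pre φ V₀ μ (x ⊗ₜ m) j = μ m j • φ V₀ x := by
  rw [pre, LinearEquiv.trans_apply, TensorProduct.congr_tmul, TensorProduct.piScalarRight_apply,
    TensorProduct.piScalarRightHom_tmul]

variable (hτ : Function.Bijective (tau La M V₀.1))

/-- The realisation of the sections over `V₀`. -/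
noncomputable def phi : Sec (CohB1.tensorMod La M) V₀.1 →ₗ[Γ(X, V₀.1)]
    (J → ExteriorAlgebra Γ(X, V₀.1) (Sec E V₀.1)) :=
  (LinearMap.pi fun j => (Submodule.subtype _) ∘ₗ LinearMap.proj j) ∘ₗ (pre φ V₀ μ).toLinearMap ∘ₗ
    (LinearEquiv.ofBijective (tau La M V₀.1) hτ).symm.toLinearMap

theorem phi_tau (x : Sec La V₀.1) (m : Sec M V₀.1) (j : J) :
    phi φ V₀ μ hτ (tau La M V₀.1 (x ⊗ₜ m)) j = μ m j • (φ V₀ x : ExteriorAlgebra _ _) := by
  have h1 : (LinearEquiv.ofBijective (tau La M V₀.1) hτ).symm (tau La M V₀.1 (x ⊗ₜ m)) = x ⊗ₜ m :=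
    (LinearEquiv.ofBijective (tau La M V₀.1) hτ).symm_apply_apply (x ⊗ₜ m)
  have h2 : phi φ V₀ μ hτ (tau La M V₀.1 (x ⊗ₜ m)) j =
      (pre φ V₀ μ ((LinearEquiv.ofBijective (tau La M V₀.1) hτ).symm
        (tau La M V₀.1 (x ⊗ₜ m))) j).1 := rfl
  rw [h2, h1, pre_tmul]
  rfl

theorem phi_injective : Function.Injective (phi φ V₀ μ hτ) := by
  intro x y h
  have h1 : ∀ j, pre φ V₀ μ ((LinearEquiv.ofBijective (tau La M V₀.1) hτ).symm x) j =
      pre φ V₀ μ ((LinearEquiv.ofBijective (tau La M V₀.1) hτ).symm y) j := fun j =>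
    Subtype.ext (congrFun h j)
  exact (LinearEquiv.ofBijective (tau La M V₀.1) hτ).symm.injective ((pre φ V₀ μ).injective (funext h1))

section Lattice

variable (hφ : PhiComp φ) {U V : X.affineOpens} (hV₀ : V₀.1 ≤ V.1) (hVU : V.1 ≤ U.1)

include hφ in
theorem phi_res_ιMulti (c : Γ(X, V.1)) (e : Fin a → Sec E V.1) (m : Sec M V.1) (j : J) :
    phi φ V₀ μ hτ (res _ hV₀ (c • tau La M V.1 ((φ V).symm (exteriorPower.ιMulti _ a e) ⊗ₜ m))) j =
      μ (res M hV₀ m) j • resO X hV₀ c • ExteriorAlgebra.ιMulti _ a (fun l => res E hV₀ (e l)) := by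
  rw [Groth.Agent.Sga67.Sec.res_smul, ← tau_tres, tres_tmul, map_smul, Pi.smul_apply, phi_tau, hφ,
    LinearEquiv.apply_symm_apply, exteriorPower.ιMulti_apply_coe, smul_comm]

variable (k : Type u) [Field k] [X.Over (Spec (CommRingCat.of k))]

attribute [local instance] algV modS

/-- Restriction of functions as a morphism of algebras. -/
noncomputable def resA {U V : X.Opens} (h : V ≤ U) : Γ(X, U) →ₐ[k] Γ(X, V) :=
  { resO X h with
    commutes' := fun t => glV_res k h t }

/-- Functions on `V` as a subalgebra of the functions on `V₀`. -/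
noncomputable def Av {U V : X.Opens} (h : V ≤ U) : Subalgebra k Γ(X, V) := (resA k h).range

theorem mem_Av {U V : X.Opens} (h : V ≤ U) {c : Γ(X, V)} : c ∈ Av k h ↔ ∃ b, resO X h b = c := Iff.rfl

/-- Restriction of sections, `k`-linearly. -/
noncomputable def resK (E : X.Modules) {U V : X.Opens} (h : V ≤ U) : Sec E U →ₗ[k] Sec E V :=
  { res E h with
    map_smul' := fun t x => by
      change res E h (glV k U t • x) = glV k V t • res E h x
      rw [Groth.Agent.Sga67.Sec.res_smul]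
      congr 1
      exact glV_res k h t }

/-- Sections over `V` as a subspace of the sections over `V₀`. -/
noncomputable def Nv (E : X.Modules) {U V : X.Opens} (h : V ≤ U) : Submodule k (Sec E V) :=
  LinearMap.range (resK k E h)

theorem mem_Nv (E : X.Modules) {U V : X.Opens} (h : V ≤ U) {c : Sec E V} :
    c ∈ Nv k E h ↔ ∃ b, res E h b = c := Iff.rfl

/-- The frame matrix of a family of sections. -/
noncomputable def mat (m : J → Sec M V.1) : Matrix J J Γ(X, V₀.1) :=
  fun j c => μ (res M hV₀ (m c)) j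

omit [Fintype J] [DecidableEq J] in
theorem mat_apply (m : J → Sec M V.1) (j c : J) : mat V₀ μ hV₀ m j c = μ (res M hV₀ (m c)) j := rfl

include hφ in
/-- **The lattice of sections.** -/
theorem range_phi_res {κ : Type*} [Fintype κ] [LinearOrder κ] {b : κ → Sec E U.1}
    (hb : IsLocBasis b) {m : J → Sec M U.1} (hm : IsLocBasis m) (y : J → ExteriorAlgebra Γ(X, V₀.1) (Sec E V₀.1)) :
    (∃ x : Sec (CohB1.tensorMod La M) V.1, phi φ V₀ μ hτ (res _ hV₀ x) = y) ↔
    ∃ z : J → ExteriorAlgebra Γ(X, V₀.1) (Sec E V₀.1),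
      (∀ j, z j ∈ lat (Subalgebra.toSubmodule (Av k hV₀)) (Nv k E hV₀) a) ∧
      act (mat V₀ μ hV₀ fun c => res M hVU (m c)) z = y := by
  constructor
  · rintro ⟨x, rfl⟩
    have hB := isLocBasis_tensor (isLocBasis_extPow φ hφ hb) hm
    obtain ⟨coef, rfl⟩ := (hB V.1 hVU).2 x
    refine ⟨fun c => ∑ I : Set.powersetCard κ a, resO X hV₀ (coef (I, c)) •
      ExteriorAlgebra.ιMulti _ a (fun l => res E (hV₀.trans hVU) (b (Set.powersetCard.ofFinEmbEquiv.symm I l))),
      fun c => Submodule.sum_mem _ fun I _ => smul_ιMulti_mem ((mem_Av k hV₀).2 ⟨_, rfl⟩) fun l =>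
        (mem_Nv k E hV₀).2 ⟨res E hVU (b _), Groth.Agent.Sga67.Sec.res_res E hVU hV₀ _⟩, ?_⟩
    funext j
    rw [comb_apply, map_sum, map_sum, Finset.sum_apply, act_apply, Fintype.sum_prod_type_right]
    refine Finset.sum_congr rfl fun c _ => ?_
    rw [Finset.smul_sum]
    refine Finset.sum_congr rfl fun I _ => ?_
    have h1 : res (CohB1.tensorMod La M) hVU (tau La M U.1
        ((φ U).symm (exteriorPower.ιMulti_family Γ(X, U.1) a b I) ⊗ₜ[Γ(X, U.1)] m c)) =
        tau La M V.1 ((φ V).symm (exteriorPower.ιMulti _ a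
          (fun l => res E hVU (b (Set.powersetCard.ofFinEmbEquiv.symm I l)))) ⊗ₜ res M hVU (m c)) := by
      rw [← tau_tres, tres_tmul, exteriorPower.ιMulti_family, hφ]
      rfl
    rw [h1, phi_res_ιMulti φ V₀ μ hτ hφ hV₀]
    simp only [mat_apply, Groth.Agent.Sga67.Sec.res_res]
    rfl
  · rintro ⟨z, hz, rfl⟩
    have key : ∀ (c : J) (w : ExteriorAlgebra Γ(X, V₀.1) (Sec E V₀.1)),
        w ∈ lat (Subalgebra.toSubmodule (Av k hV₀)) (Nv k E hV₀) a →
        ∃ x : Sec (CohB1.tensorMod La M) V.1, phi φ V₀ μ hτ (res _ hV₀ x) =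
          fun j => mat V₀ μ hV₀ (fun c => res M hVU (m c)) j c • w := by
      intro c w hw
      induction hw using Submodule.span_induction with
      | mem w hw =>
        obtain ⟨q, ⟨q', rfl⟩, e, he, rfl⟩ := hw
        choose e' he' using he
        refine ⟨q' • tau La M V.1 ((φ V).symm (exteriorPower.ιMulti _ a e') ⊗ₜ res M hVU (m c)), ?_⟩
        funext j
        rw [phi_res_ιMulti φ V₀ μ hτ hφ hV₀]
        have h2 : e = fun l => res E hV₀ (e' l) := funext fun l => (he' l).symm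
        rw [h2]
        rfl
      | zero =>
        refine ⟨0, ?_⟩
        rw [map_zero, map_zero]
        funext j
        exact (smul_zero _).symm
      | add w w' _ _ hw hw' =>
        obtain ⟨x, hx⟩ := hw
        obtain ⟨x', hx'⟩ := hw'
        refine ⟨x + x', ?_⟩
        rw [map_add, map_add, hx, hx']
        funext j
        exact (smul_add _ _ _).symm
      | smul t w _ hw =>
        obtain ⟨x, hx⟩ := hw
        refine ⟨glV k V.1 t • x, ?_⟩
        rw [Groth.Agent.Sga67.Sec.res_smul, map_smul, hx]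
        funext j
        have h3 : resO X hV₀ (glV k V.1 t) = algebraMap k Γ(X, V₀.1) t := glV_res k hV₀ t
        rw [Pi.smul_apply, h3, algebraMap_smul, smul_comm]
    choose x hx using fun c => key c (z c) (hz c)
    refine ⟨∑ c, x c, ?_⟩
    rw [map_sum, map_sum]
    funext j
    rw [Finset.sum_apply, act_apply]
    exact Finset.sum_congr rfl fun c _ => congrFun (hx c) j

end Lattice

section Nl

open K912.LatCmp K912.Seq

variable (k : Type u) [Field k] [X.Over (Spec (CommRingCat.of k))]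

attribute [local instance] algV modS modP

/-- The realisation as a `k`-linear map. -/
noncomputable def phik : (CohB1.tensorMod La M).presheaf.obj (op V₀.1) →ₗ[k]
    (J → ExteriorAlgebra Γ(X, V₀.1) (Sec E V₀.1)) where
  toFun := phi φ V₀ μ hτ
  map_add' := map_add _
  map_smul' t x := by
    change phi φ V₀ μ hτ (glV k V₀.1 t • (show Sec (CohB1.tensorMod La M) V₀.1 from x)) = _
    rw [map_smul]
    funext j
    have h3 : glV k V₀.1 t = algebraMap k Γ(X, V₀.1) t := rfl
    rw [Pi.smul_apply, h3, algebraMap_smul]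
    rfl

theorem rho_phik {V : X.Opens} (h : V₀.1 ≤ V) (x : Sec (CohB1.tensorMod La M) V) :
    rho k (CohB1.tensorMod La M) (phik φ V₀ μ hτ k) h x = phi φ V₀ μ hτ (res _ h x) := rfl

variable {ι : Type u} (U : ι → X.affineOpens) (hV₀ : ∀ i, V₀.1 ≤ (U i).1)
  (hφ : PhiComp φ)

include hφ in
/-- The lattices of `Λ^a E ⊗ M` in terms of frames. -/
theorem mem_Nl {s : Set ι} {i : ι} (hi : i ∈ s) (haff : IsAffineOpen (Us (fun i => (U i).1) s))
    {κ : Type*} [Fintype κ] [LinearOrder κ] {b : κ → Sec E (U i).1} (hb : IsLocBasis b)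
    {m : J → Sec M (U i).1} (hm : IsLocBasis m)
    (y : J → ExteriorAlgebra Γ(X, V₀.1) (Sec E V₀.1)) :
    y ∈ Nl k (fun i => (U i).1) hV₀ (CohB1.tensorMod La M) (phik φ V₀ μ hτ k) s ↔
    ∃ z : J → ExteriorAlgebra Γ(X, V₀.1) (Sec E V₀.1),
      (∀ j, z j ∈ lat (Subalgebra.toSubmodule (Av k (le_Us (fun i => (U i).1) hV₀ s)))
        (Nv k E (le_Us (fun i => (U i).1) hV₀ s)) a) ∧
      act (fun j c => μ (res M (hV₀ i) (m c)) j) z = y := by
  have hVU : Us (fun i => (U i).1) s ≤ (U i).1 := iInf_le_of_le i (iInf_le_of_le hi le_rfl)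
  have h1 := range_phi_res φ V₀ μ hτ hφ (V := ⟨Us (fun i => (U i).1) s, haff⟩) (U := U i)
    (le_Us (fun i => (U i).1) hV₀ s) hVU k hb hm y
  have h2 : mat V₀ μ (V := ⟨Us (fun i => (U i).1) s, haff⟩) (le_Us (fun i => (U i).1) hV₀ s)
      (fun c => res M hVU (m c)) = fun j c => μ (res M (hV₀ i) (m c)) j := by
    funext j c
    rw [mat_apply, Groth.Agent.Sga67.Sec.res_res]
  rw [h2] at h1
  rw [← h1, Nl_nonempty k (fun i => (U i).1) hV₀ _ _ ⟨i, hi⟩]
  rfl

omit [Fintype J] [DecidableEq J] in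
theorem res_injective [Fintype J] {U V V₀ : X.Opens} (h : V ≤ U) (h₀ : V₀ ≤ V)
    (hρ : Function.Injective (resO X h₀)) {m : J → Sec M U} (hm : IsLocBasis m) :
    Function.Injective (res M h₀) := by
  rw [injective_iff_map_eq_zero]
  intro x hx
  obtain ⟨c, rfl⟩ := (hm V h).2 x
  rw [res_comb] at hx
  have h1 := (hm V₀ (h₀.trans h)).1 (hx.trans (map_zero _).symm)
  have h2 : c = 0 := by
    funext j
    have h3 : resO X h₀ (c j) = 0 := congrFun h1 j
    exact (map_eq_zero_iff _ hρ).1 h3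
  rw [h2, map_zero]

theorem rho_phik_injective {U V : X.affineOpens} (h : V.1 ≤ U.1)
    (h₀ : V₀.1 ≤ V.1) (hρ : Function.Injective (resO X h₀)) {κ : Type*} [Fintype κ] [LinearOrder κ]
    (hφ : PhiComp φ) {b : κ → Sec E U.1} (hb : IsLocBasis b) {m : J → Sec M U.1} (hm : IsLocBasis m) :
    Function.Injective (rho k (CohB1.tensorMod La M) (phik φ V₀ μ hτ k) h₀) := by
  have hB := isLocBasis_tensor (isLocBasis_extPow φ hφ hb) hm
  exact (phi_injective φ V₀ μ hτ).comp (res_injective h h₀ hρ hB)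

end Nl

end K912.Frame
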