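import Groth.Agent.DelIll.K912.CechCmp
import Groth.Agent.DelIll.K912.Dim
import Groth.Agent.Fga.MumCech

/-!
# Cohomology of a quasi-coherent module by lattices in one vector space

`U : ι → X.Opens` a covering with affine finite intersections, `V₀` an open contained in all `U i`,
`φ : Γ(M, V₀) → W` an injective `k`-linear map, restriction to `V₀` injective.  Then `H^p(X, M)` is the Čech
cohomology of the system of lattices `N s = φ (Γ(M, ⋂_{i ∈ s} U i))`.
-/

set_option autoImplicit false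

universe u

open CategoryTheory CategoryTheory.Limits AlgebraicGeometry Opposite TopologicalSpace
open Groth.Agent.CohqA.CechBasic Groth.Agent.CohqA.CechSheaf Groth.Agent.CurvesB.HZero
open Groth.Agent.Fga.MumCech
open K912.Seq K912.Dim K912.CechCmp

namespace K912.LatCmp

variable (k : Type u) [Field k] {X : Scheme.{u}} [X.Over (Spec (CommRingCat.of k))]

attribute [local instance] modP

/-- Restriction, `k`-linearly. -/
noncomputable def resL (M : X.Modules) {V W : X.Opens} (h : V ≤ W) :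
    M.presheaf.obj (op W) →ₗ[k] M.presheaf.obj (op V) where
  toFun := res M.presheaf h
  map_add' := map_add _
  map_smul' t m := res_smul k M h t m

variable {ι : Type u} (U : ι → X.Opens) {V₀ : X.Opens} (hV₀ : ∀ i, V₀ ≤ U i) (M : X.Modules)
  {W : Type*} [AddCommGroup W] [Module k W] (φ : M.presheaf.obj (op V₀) →ₗ[k] W)

/-- The finite intersections. -/
def Us (s : Set ι) : X.Opens := ⨅ i ∈ s, U i

include hV₀ in
theorem le_Us (s : Set ι) : V₀ ≤ Us U s := le_iInf fun i => le_iInf fun _ => hV₀ i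

theorem Us_anti {s t : Set ι} (h : s ⊆ t) : Us U t ≤ Us U s :=
  le_iInf fun i => le_iInf fun hi => iInf_le_of_le i (iInf_le_of_le (h hi) le_rfl)

theorem Us_rg (p : ℕ) (i : ℕ → ι) : Us U (rg p i) = ⨅ a : Fin (p + 1), U (i a) := by
  apply le_antisymm
  · refine le_iInf fun a => iInf_le_of_le (i a) (iInf_le_of_le ?_ le_rfl)
    exact mem_rg i (by have := a.2; omega)
  · refine le_iInf fun j => le_iInf fun hj => ?_
    obtain ⟨m, hm, rfl⟩ := hj
    have hm' : m ≤ p := hm
    exact iInf_le (fun a : Fin (p + 1) => U (i a)) ⟨m, by omega⟩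

/-- Sections over a bigger open as elements of `W`. -/
noncomputable def rho {V : X.Opens} (h : V₀ ≤ V) : M.presheaf.obj (op V) →ₗ[k] W := φ ∘ₗ resL k M h

theorem rho_apply {V : X.Opens} (h : V₀ ≤ V) (m : M.presheaf.obj (op V)) :
    rho k M φ h m = φ (res M.presheaf h m) := rfl

theorem rho_res {V V' : X.Opens} (h : V₀ ≤ V) (h' : V ≤ V') (m : M.presheaf.obj (op V')) :
    rho k M φ h (res M.presheaf h' m) = rho k M φ (h.trans h') m := by
  rw [rho_apply, rho_apply, res_res]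

theorem range_rho_congr {V V' : X.Opens} (h : V₀ ≤ V) (h' : V₀ ≤ V') (e : V = V') :
    LinearMap.range (rho k M φ h) = LinearMap.range (rho k M φ h') := by
  subst e
  rfl

open scoped Classical in
/-- The system of lattices. -/
noncomputable def Nl (s : Set ι) : Submodule k W :=
  if s.Nonempty then LinearMap.range (rho k M φ (le_Us U hV₀ s)) else ⊥

theorem Nl_nonempty {s : Set ι} (hs : s.Nonempty) :
    Nl k U hV₀ M φ s = LinearMap.range (rho k M φ (le_Us U hV₀ s)) := if_pos hs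

theorem Nl_empty : Nl k U hV₀ M φ ∅ = ⊥ := if_neg (by simp)

theorem Nl_mono : Monotone (Nl k U hV₀ M φ) := by
  intro s t hst
  rcases s.eq_empty_or_nonempty with rfl | hs
  · rw [Nl_empty]
    exact bot_le
  · rw [Nl_nonempty k U hV₀ M φ hs, Nl_nonempty k U hV₀ M φ (hs.mono hst)]
    rintro _ ⟨m, rfl⟩
    exact ⟨res M.presheaf (Us_anti U hst) m, rho_res k M φ (le_Us U hV₀ t) (Us_anti U hst) m⟩

include hV₀ in
theorem le_iInf_U {p : ℕ} (i : Fin (p + 1) → ι) : V₀ ≤ ⨅ a, U (i a) := le_iInf fun _ => hV₀ _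

/-- Cochains as functions on sequences. -/
noncomputable def toSeq (p : ℕ) : Cochain U M.presheaf p →ₗ[k] ((ℕ → ι) → W) where
  toFun c i := rho k M φ (le_iInf_U U hV₀ fun a : Fin (p + 1) => i a) (c fun a => i a)
  map_add' c c' := by
    funext i
    exact map_add _ _ _
  map_smul' t c := by
    funext i
    exact map_smul (rho k M φ (le_iInf_U U hV₀ fun a : Fin (p + 1) => i a)) t (c fun a => i a)

theorem toSeq_apply (p : ℕ) (c : Cochain U M.presheaf p) (i : ℕ → ι) : toSeq k U hV₀ M φ p c i =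
    rho k M φ (le_iInf_U U hV₀ fun a : Fin (p + 1) => i a) (c fun a => i a) := rfl

theorem rho_congr (p : ℕ) (c : Cochain U M.presheaf p) {i i' : Fin (p + 1) → ι} (h : i = i') :
    rho k M φ (le_iInf_U U hV₀ i) (c i) = rho k M φ (le_iInf_U U hV₀ i') (c i') := by
  subst h
  rfl

theorem toSeq_dC (p : ℕ) (c : Cochain U M.presheaf p) :
    toSeq k U hV₀ M φ (p + 1) (dC U M.presheaf p c) = δ p (toSeq k U hV₀ M φ p c) := by
  funext i
  rw [toSeq_apply, dC_apply, map_sum, δ_apply, Finset.sum_range]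
  refine Finset.sum_congr rfl fun j _ => ?_
  rw [map_zsmul, toSeq_apply, rho_res]
  congr 1
  refine rho_congr k U hV₀ M φ p c ?_
  funext a
  change i ((j.succAbove a : Fin (p + 2)) : ℕ) = face j i a
  by_cases h : (a : ℕ) < j
  · rw [face_apply_lt i h, Fin.succAbove_of_castSucc_lt j a (by exact h)]
    rfl
  · rw [face_apply_ge i (not_lt.1 h), Fin.succAbove_of_le_castSucc j a (by exact not_lt.1 h)]
    rfl

theorem toSeq_mem (p : ℕ) (c : Cochain U M.presheaf p) :
    toSeq k U hV₀ M φ p c ∈ Coch (Nl k U hV₀ M φ) p := by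
  refine ⟨fun i i' h => ?_, fun i => ?_⟩
  · rw [toSeq_apply, toSeq_apply]
    refine rho_congr k U hV₀ M φ p c ?_
    funext a
    exact h a (by have := a.2; omega)
  · rw [Nl_nonempty k U hV₀ M φ (rg_nonempty p i), range_rho_congr k M φ _
      (le_iInf_U U hV₀ fun a : Fin (p + 1) => i a) (Us_rg U p i)]
    exact ⟨_, rfl⟩

/-- Extension of a finite sequence. -/
def ext {p : ℕ} (i : Fin (p + 1) → ι) : ℕ → ι := fun m => i ⟨min m p, by omega⟩

theorem ext_apply {p : ℕ} (i : Fin (p + 1) → ι) (a : Fin (p + 1)) : ext i a = i a := by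
  have h : min (a : ℕ) p = a := by have := a.2; omega
  rw [ext]
  congr 1
  exact Fin.ext h

theorem ext_restrict (p : ℕ) (i : ℕ → ι) : ext (fun a : Fin (p + 1) => i a) = trunc p i := rfl

theorem toSeq_surj (p : ℕ) {c' : (ℕ → ι) → W} (hc' : c' ∈ Coch (Nl k U hV₀ M φ) p) :
    ∃ c, toSeq k U hV₀ M φ p c = c' := by
  have h1 : ∀ i : Fin (p + 1) → ι, ∃ m : M.presheaf.obj (op (⨅ a, U (i a))),
      rho k M φ (le_iInf_U U hV₀ i) m = c' (ext i) := by
    intro i
    have h2 := hc'.2 (ext i)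
    rw [Nl_nonempty k U hV₀ M φ (rg_nonempty p _), range_rho_congr k M φ _
      (le_iInf_U U hV₀ i) ((Us_rg U p (ext i)).trans (by simp only [ext_apply]))] at h2
    exact h2
  choose c hc using h1
  refine ⟨c, ?_⟩
  funext i
  rw [toSeq_apply, hc, ext_restrict, hc'.1.trunc]

variable (hinj : ∀ (p : ℕ) (i : Fin (p + 1) → ι), Function.Injective (rho k M φ (le_iInf_U U hV₀ i)))

include hinj in
theorem toSeq_injective (p : ℕ) : Function.Injective (toSeq k U hV₀ M φ p) := by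
  intro c c' h
  funext i
  apply hinj p i
  have h1 := congrFun h (ext i)
  rw [toSeq_apply, toSeq_apply] at h1
  rw [rho_congr k U hV₀ M φ p c (i' := i) (funext fun a => ext_apply i a),
    rho_congr k U hV₀ M φ p c' (i' := i) (funext fun a => ext_apply i a)] at h1
  exact h1

theorem toSeq_mem_Zc {p : ℕ} {c : Cochain U M.presheaf p} (hc : dC U M.presheaf p c = 0) :
    toSeq k U hV₀ M φ p c ∈ Zc (Nl k U hV₀ M φ) p :=
  mem_Zc.2 ⟨toSeq_mem k U hV₀ M φ p c, by rw [← toSeq_dC, hc, map_zero]⟩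

include hinj in
theorem toSeq_mem_Bc_iff {p : ℕ} (c : Cochain U M.presheaf p) :
    toSeq k U hV₀ M φ p c ∈ Bc (Nl k U hV₀ M φ) p ↔ IsB U M.presheaf p c := by
  cases p with
  | zero =>
    rw [mem_Bc_zero]
    constructor
    · intro h
      exact toSeq_injective k U hV₀ M φ hinj 0 (h.trans (map_zero _).symm)
    · intro h
      have h' : c = 0 := h
      rw [h', map_zero]
  | succ p =>
    rw [mem_Bc_succ]
    constructor
    · rintro ⟨b, hb, hbc⟩
      obtain ⟨b', rfl⟩ := toSeq_surj k U hV₀ M φ p hb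
      refine ⟨b', toSeq_injective k U hV₀ M φ hinj (p + 1) ?_⟩
      rw [toSeq_dC, hbc]
    · rintro ⟨b, rfl⟩
      exact ⟨_, toSeq_mem k U hV₀ M φ p b, (toSeq_dC k U hV₀ M φ p b).symm⟩

/-- The class in the lattice cohomology of a Čech cocycle. -/
noncomputable def toHc (p : ℕ) : LinearMap.ker (dk k U M p) →ₗ[k] Hc (Nl k U hV₀ M φ) p where
  toFun c := cls _ _ (toSeq k U hV₀ M φ p c.1) (toSeq_mem_Zc k U hV₀ M φ c.2)
  map_add' c c' := by
    have h : toSeq k U hV₀ M φ p (c.1 + c'.1) = toSeq k U hV₀ M φ p c.1 + toSeq k U hV₀ M φ p c'.1 :=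
      map_add _ _ _
    exact congrArg (Submodule.Quotient.mk (p := (Bc (Nl k U hV₀ M φ) p).submoduleOf (Zc (Nl k U hV₀ M φ) p)))
      (Subtype.ext h : (⟨toSeq k U hV₀ M φ p (c.1 + c'.1), _⟩ : Zc (Nl k U hV₀ M φ) p) = ⟨_, _⟩ + ⟨_, _⟩)
  map_smul' t c := by
    have h : toSeq k U hV₀ M φ p (t • c.1) = t • toSeq k U hV₀ M φ p c.1 := map_smul _ _ _
    exact congrArg (Submodule.Quotient.mk (p := (Bc (Nl k U hV₀ M φ) p).submoduleOf (Zc (Nl k U hV₀ M φ) p)))
      (Subtype.ext h : (⟨toSeq k U hV₀ M φ p (t • c.1), _⟩ : Zc (Nl k U hV₀ M φ) p) = t • ⟨_, _⟩)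

theorem toHc_apply (p : ℕ) (c : LinearMap.ker (dk k U M p)) : toHc k U hV₀ M φ p c =
    cls _ _ (toSeq k U hV₀ M φ p c.1) (toSeq_mem_Zc k U hV₀ M φ c.2) := rfl

include hinj in
theorem toHc_surjective (p : ℕ) : Function.Surjective (toHc k U hV₀ M φ p) := by
  intro x
  obtain ⟨z, hz, rfl⟩ := exists_cls x
  obtain ⟨c, rfl⟩ := toSeq_surj k U hV₀ M φ p hz.1
  refine ⟨⟨c, ?_⟩, rfl⟩
  change dC U M.presheaf p c = 0
  apply toSeq_injective k U hV₀ M φ hinj (p + 1)
  rw [toSeq_dC, map_zero]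
  exact hz.2

include hinj in
theorem toHc_eq_zero_iff (p : ℕ) (c : LinearMap.ker (dk k U M p)) :
    toHc k U hV₀ M φ p c = 0 ↔ IsB U M.presheaf p c.1 := by
  rw [toHc_apply, cls_eq_zero, toSeq_mem_Bc_iff k U hV₀ M φ hinj]

/-- An abstract lemma on quotients. -/
theorem exists_equiv_of_surj {Z H H' : Type*} [AddCommGroup Z] [Module k Z] [AddCommGroup H]
    [Module k H] [AddCommGroup H'] [Module k H'] (Θ : Z →+ H) (hΘ : Function.Surjective Θ)
    (hΘs : ∀ (t : k) z, Θ (t • z) = t • Θ z) (T : Z →ₗ[k] H') (hT : Function.Surjective T)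
    (h : ∀ z, Θ z = 0 ↔ T z = 0) : ∃ E : H ≃ₗ[k] H', ∀ z, E (Θ z) = T z := by
  let Θ' : Z →ₗ[k] H := { toFun := Θ, map_add' := map_add Θ, map_smul' := hΘs }
  have h1 : LinearMap.ker Θ' = LinearMap.ker T := by
    ext z
    exact h z
  let e1 : (Z ⧸ LinearMap.ker Θ') ≃ₗ[k] H := Θ'.quotKerEquivOfSurjective hΘ
  let e2 : (Z ⧸ LinearMap.ker T) ≃ₗ[k] H' := T.quotKerEquivOfSurjective hT
  refine ⟨e1.symm.trans ((Submodule.quotEquivOfEq _ _ h1).trans e2), fun z => ?_⟩
  have h2 : e1.symm (Θ z) = Submodule.Quotient.mk z := by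
    rw [LinearEquiv.symm_apply_eq]
    rfl
  rw [LinearEquiv.trans_apply, LinearEquiv.trans_apply, h2]
  rfl

/-- `M` is acyclic on the finite intersections. -/
def AcycM (M : X.Modules) : Prop := Acyc U (Coh.toAb M)

theorem acycM (hUa : ∀ s : Finset ι, s.Nonempty → IsAffineOpen (⨅ i ∈ s, U i)) (hM : Coh.IsQCoh M) :
    AcycM U M := by
  classical
  intro n s q hq
  obtain ⟨q, rfl⟩ := Nat.exists_eq_succ_of_ne_zero hq.ne'
  have haff : IsAffineOpen (⨅ i, U (s i)) := by
    have h1 := hUa (Finset.univ.image s) (by simp)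
    have h2 : (⨅ i ∈ Finset.univ.image s, U i) = ⨅ i, U (s i) := by
      rw [Finset.iInf_finset_image]
      simp
    rwa [h2] at h1
  exact Groth.Agent.CohqA.AffVan.subsingleton_HU_of_isAffineOpen M haff q

/-- The two descriptions of the cocycles. -/
noncomputable def toZ (p : ℕ) : LinearMap.ker (dk k U M p) →+ Z U M.presheaf p where
  toFun c := ⟨c.1, c.2⟩
  map_zero' := rfl
  map_add' _ _ := rfl

/-- The class in `H^p(X, M)` of a Čech cocycle. -/
noncomputable def clsH (hU : ⨆ i, U i = ⊤) (hM : AcycM U M) (p : ℕ) :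
    LinearMap.ker (dk k U M p) →+ Coh.HH X M p :=
  (Theta U hU p (Coh.toAb M) hM).comp (toZ k U M p)

theorem clsH_surjective (hU : ⨆ i, U i = ⊤) (hM : AcycM U M) (p : ℕ) :
    Function.Surjective (clsH k U M hU hM p) := by
  intro x
  obtain ⟨c, hc⟩ := Theta_surjective U hU p (Coh.toAb M) hM x
  exact ⟨⟨c.1, c.2⟩, hc⟩

theorem clsH_eq_zero_iff (hU : ⨆ i, U i = ⊤) (hM : AcycM U M) (p : ℕ)
    (c : LinearMap.ker (dk k U M p)) : clsH k U M hU hM p c = 0 ↔ IsB U M.presheaf p c.1 :=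
  Theta_eq_zero_iff U hU p (Coh.toAb M) hM ⟨c.1, c.2⟩

theorem clsH_smul (hU : ⨆ i, U i = ⊤) (hM : AcycM U M) (p : ℕ) (t : k)
    (c : LinearMap.ker (dk k U M p)) : clsH k U M hU hM p (t • c) = t • clsH k U M hU hM p c := by
  refine Eq.symm ?_
  refine (Theta_map U hU p _ _ hM hM (Coh.smulAb M (Coh.toGlobal (X ↘ Spec (CommRingCat.of k)) t))
    ⟨c.1, c.2⟩).trans ?_
  rfl

/-- Naturality of the classes. -/
theorem clsH_map (hU : ⨆ i, U i = ⊤) {M' : X.Modules} (hM : AcycM U M)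
    (hM' : AcycM U M') (p : ℕ) (α : M ⟶ M') (c : LinearMap.ker (dk k U M p)) :
    Sheaf.H.map ((SheafOfModules.toSheaf X.ringCatSheaf).map α) p (clsH k U M hU hM p c) =
      clsH k U M' hU hM' p ⟨mapk k U α p c.1, by
        rw [LinearMap.mem_ker, ← mapk_dk, (show dk k U M p c.1 = 0 from c.2), map_zero]⟩ :=
  Theta_map U hU p _ _ hM hM' ((SheafOfModules.toSheaf X.ringCatSheaf).map α) ⟨c.1, c.2⟩

include hinj in
/-- **The comparison.** -/
theorem exists_equiv (hU : ⨆ i, U i = ⊤) (hM : AcycM U M) (p : ℕ) :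
    ∃ E : Coh.HH X M p ≃ₗ[k] Hc (Nl k U hV₀ M φ) p,
      ∀ c, E (clsH k U M hU hM p c) = toHc k U hV₀ M φ p c :=
  exists_equiv_of_surj k (clsH k U M hU hM p) (clsH_surjective k U M hU hM p)
    (clsH_smul k U M hU hM p) (toHc k U hV₀ M φ p) (toHc_surjective k U hV₀ M φ hinj p)
    (fun c => (clsH_eq_zero_iff k U M hU hM p c).trans (toHc_eq_zero_iff k U hV₀ M φ hinj p c).symm)

include hinj in
/-- The dimension of cohomology. -/
theorem finrank_eq (hU : ⨆ i, U i = ⊤) (hM : AcycM U M) (p : ℕ) :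
    Module.finrank k (Hc (Nl k U hV₀ M φ) p) = Module.finrank k (Coh.HH X M p) := by
  obtain ⟨E, -⟩ := exists_equiv k U hV₀ M φ hinj hU hM p
  exact E.finrank_eq.symm

include hinj in
theorem finite_iff (hU : ⨆ i, U i = ⊤) (hM : AcycM U M) (p : ℕ) :
    Module.Finite k (Hc (Nl k U hV₀ M φ) p) ↔ Module.Finite k (Coh.HH X M p) := by
  obtain ⟨E, -⟩ := exists_equiv k U hV₀ M φ hinj hU hM p
  exact ⟨fun _ => Module.Finite.equiv E.symm, fun _ => Module.Finite.equiv E⟩

end K912.LatCmp
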