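import Groth.Agent.DelIll.K912.Tot

/-!
# Operators on the total Čech complex

A family `U i`, `V i j` of operators on a differential module `(W, d)` with `d ∘ U i = -U i ∘ d`,
`U j - U i = d ∘ V i j - V i j ∘ d`, `V i j + V j l = V i l` defines an operator `Lop U V` on the total Čech complex
which anticommutes with the total differential.
-/

set_option autoImplicit false

namespace K912.Op

open K912.Seq K912.Cx

variable {ι W : Type*} [AddCommGroup W]

/-- The conditions on a family of operators. -/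
structure Fam (d : W →+ W) (U : ι → W →+ W) (V : ι → ι → W →+ W) : Prop where
  anti : ∀ i w, d (U i w) = -U i (d w)
  diff : ∀ i j w, U j w - U i w = d (V i j w) - V i j (d w)
  coc : ∀ i j l w, V i j w + V j l w = V i l w

/-- The operator. -/
def Lop (U : ι → W →+ W) (V : ι → ι → W →+ W) (x : T ι W) : T ι W
  | 0 => fun i => U (i 0) (x 0 i)
  | n + 1 => fun i => (-1 : ℤ) ^ (n + 1) • U (i 0) (x (n + 1) i) + V (i 0) (i 1) (x n (shift 1 i))

variable {d : W →+ W} {U : ι → W →+ W} {V : ι → ι → W →+ W}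

theorem Lop_zero_apply (x : T ι W) (i : ℕ → ι) : Lop U V x 0 i = U (i 0) (x 0 i) := rfl

theorem Lop_succ_apply (x : T ι W) (n : ℕ) (i : ℕ → ι) : Lop U V x (n + 1) i =
    (-1 : ℤ) ^ (n + 1) • U (i 0) (x (n + 1) i) + V (i 0) (i 1) (x n (shift 1 i)) := rfl

theorem Lop_add (x y : T ι W) : Lop U V (x + y) = Lop U V x + Lop U V y := by
  funext n i
  cases n with
  | zero =>
    change U (i 0) (x 0 i + y 0 i) = U (i 0) (x 0 i) + U (i 0) (y 0 i)
    rw [map_add]
  | succ n =>
    change (-1 : ℤ) ^ (n + 1) • U (i 0) (x (n + 1) i + y (n + 1) i) +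
      V (i 0) (i 1) (x n (shift 1 i) + y n (shift 1 i)) = (_ + _) + (_ + _)
    rw [map_add, map_add, smul_add]
    abel

theorem δ_succ' (n : ℕ) (c : (ℕ → ι) → W) (i : ℕ → ι) : δ n c i =
    ∑ x ∈ Finset.range (n + 1), (-1 : ℤ) ^ (x + 1) • c (face (x + 1) i) + c (shift 1 i) := by
  rw [δ_apply, Finset.sum_range_succ', face_zero, pow_zero, one_smul]

theorem δ_U (n : ℕ) (c : (ℕ → ι) → W) (i : ℕ → ι) : δ n (fun i => U (i 0) (c i)) i =
    U (i 0) (δ n c i) + (U (i 1) (c (shift 1 i)) - U (i 0) (c (shift 1 i))) := by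
  rw [δ_succ', δ_succ', map_add, map_sum, shift_apply, Nat.zero_add]
  have e : ∑ x ∈ Finset.range (n + 1), (-1 : ℤ) ^ (x + 1) • U (face (x + 1) i 0) (c (face (x + 1) i)) =
      ∑ x ∈ Finset.range (n + 1), U (i 0) ((-1 : ℤ) ^ (x + 1) • c (face (x + 1) i)) := by
    refine Finset.sum_congr rfl fun x _ => ?_
    rw [face_apply_lt i (by omega), map_zsmul]
  rw [e]
  abel

theorem δ_V (n : ℕ) (c : (ℕ → ι) → W) (i : ℕ → ι) :
    δ (n + 1) (fun i => V (i 0) (i 1) (c (shift 1 i))) i =
      -V (i 0) (i 1) (δ n c (shift 1 i)) + (V (i 1) (i 2) (c (shift 2 i)) +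
        V (i 0) (i 1) (c (shift 2 i)) - V (i 0) (i 2) (c (shift 2 i))) := by
  rw [δ_succ', δ_succ', Finset.sum_range_succ', map_add, map_sum]
  simp only [zero_add, pow_one, shift_shift]
  have e : ∑ x ∈ Finset.range (n + 1), (-1 : ℤ) ^ (x + 1 + 1) •
        V (face (x + 1 + 1) i 0) (face (x + 1 + 1) i 1) (c (shift 1 (face (x + 1 + 1) i))) =
      -∑ x ∈ Finset.range (n + 1), V (i 0) (i 1) ((-1 : ℤ) ^ (x + 1) • c (face (x + 1) (shift 1 i))) := by
    rw [← Finset.sum_neg_distrib]
    refine Finset.sum_congr rfl fun x _ => ?_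
    rw [face_apply_lt i (by omega), face_apply_lt i (by omega), map_zsmul, pow_succ (-1 : ℤ) (x + 1),
      show x + 1 + 1 = 1 + (x + 1) by omega, shift_face_add, mul_smul]
    simp
  rw [e, shift_face_le le_rfl]
  rw [face_apply_lt i (by omega : 0 < 1), face_apply_ge i le_rfl, shift_apply, shift_apply]
  simp only [neg_smul, one_smul]
  abel

/-- The operator anticommutes with the total differential. -/
theorem D_Lop (h : Fam d U V) (x : T ι W) : D d (Lop U V x) = -Lop U V (D d x) := by
  funext n i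
  rw [Pi.neg_apply, Pi.neg_apply]
  cases n with
  | zero =>
    rw [D_zero_apply, Lop_zero_apply, Lop_zero_apply, D_zero_apply, h.anti]
  | succ n =>
    rw [D_succ_apply, Lop_succ_apply, Lop_succ_apply, D_succ_apply, map_add, map_zsmul, map_add,
      map_zsmul, h.anti]
    have hd := h.diff (i 0) (i 1) (x n (shift 1 i))
    cases n with
    | zero =>
      have e : δ 0 (Lop U V x 0) i = δ 0 (fun i => U (i 0) (x 0 i)) i := rfl
      rw [e, δ_U, D_zero_apply, hd]
      simp only [zero_add, pow_one, neg_smul, one_smul]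
      abel
    | succ n =>
      have e : Lop U V x (n + 1) = (-1 : ℤ) ^ (n + 1) • (fun i => U (i 0) (x (n + 1) i)) +
          fun i => V (i 0) (i 1) (x n (shift 1 i)) := rfl
      rw [e, δ_add, δ_smul, Pi.add_apply, Pi.smul_apply, δ_U, δ_V, D_succ_apply, map_add, map_zsmul,
        hd]
      have hc := h.coc (i 0) (i 1) (i 2) (x n (shift 2 i))
      have hc' : V (i 1) (i 2) (x n (shift 2 i)) + V (i 0) (i 1) (x n (shift 2 i)) -
          V (i 0) (i 2) (x n (shift 2 i)) = 0 := by
        rw [← hc]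
        abel
      rw [hc']
      rcases neg_one_pow_eq_or ℤ n with hn | hn
      · simp only [pow_succ, hn]
        simp only [mul_neg, mul_one, neg_neg, neg_smul, one_smul, smul_neg, smul_add]
        abel
      · simp only [pow_succ, hn]
        simp only [mul_neg, mul_one, neg_neg, neg_smul, one_smul, smul_neg, smul_add]
        abel

theorem dep_Lop {x : T ι W} (hx : ∀ n, Dep n (x n)) (n : ℕ) : Dep n (Lop U V x n) := by
  intro i i' hi
  cases n with
  | zero => rw [Lop_zero_apply, Lop_zero_apply, hx 0 i i' hi, hi 0 le_rfl]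
  | succ n =>
    rw [Lop_succ_apply, Lop_succ_apply, hx (n + 1) i i' hi, hi 0 (by omega), hi 1 (by omega),
      hx n (shift 1 i) (shift 1 i') (fun m hm => hi _ (by omega))]

end K912.Op
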