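import Mathlib.Algebra.BigOperators.Group.Finset.Basic
import Mathlib.Algebra.BigOperators.Intervals
import Mathlib.Algebra.Module.BigOperators
import Mathlib.Algebra.Module.Pi
import Mathlib.Algebra.Module.Submodule.Basic
import Mathlib.LinearAlgebra.Pi
import Mathlib.Data.Set.Image
import Mathlib.Tactic.Ring
import Mathlib.Tactic.Abel
import Mathlib.Tactic.Linarith

/-!
# Čech cochains as functions on infinite sequences

A Čech `n`-cochain with values in `W` for an index set `ι` is a function `c : (ℕ → ι) → W` which only depends on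
the first `n + 1` entries (`Dep n c`).  This avoids all casts between `Fin (n+1) → ι`.
-/

set_option autoImplicit false

namespace K912.Seq

variable {ι : Type*}

/-- Remove the `j`-th entry. -/
def face (j : ℕ) (i : ℕ → ι) : ℕ → ι := fun m => if m < j then i m else i (m + 1)

/-- Drop the first `q` entries. -/
def shift (q : ℕ) (i : ℕ → ι) : ℕ → ι := fun m => i (m + q)

/-- Make the sequence constant after the `n`-th entry. -/
def trunc (n : ℕ) (i : ℕ → ι) : ℕ → ι := fun m => i (min m n)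

theorem face_apply_lt {j m : ℕ} (i : ℕ → ι) (h : m < j) : face j i m = i m := if_pos h

theorem face_apply_ge {j m : ℕ} (i : ℕ → ι) (h : j ≤ m) : face j i m = i (m + 1) :=
  if_neg (not_lt.2 h)

theorem shift_apply (q m : ℕ) (i : ℕ → ι) : shift q i m = i (m + q) := rfl

theorem shift_zero (i : ℕ → ι) : shift 0 i = i := rfl

theorem shift_shift (q r : ℕ) (i : ℕ → ι) : shift q (shift r i) = shift (q + r) i := by
  funext m
  simp only [shift_apply]
  congr 1
  omega

theorem face_zero (i : ℕ → ι) : face 0 i = shift 1 i := by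
  funext m
  rw [face_apply_ge i (Nat.zero_le m), shift_apply]

theorem shift_face_le {j q : ℕ} (h : j ≤ q) (i : ℕ → ι) : shift q (face j i) = shift (q + 1) i := by
  funext m
  rw [shift_apply, face_apply_ge i (by omega), shift_apply]
  congr 1

theorem shift_face_add (j q : ℕ) (i : ℕ → ι) : shift q (face (q + j) i) = face j (shift q i) := by
  funext m
  rw [shift_apply]
  by_cases h : m < j
  · rw [face_apply_lt i (by omega), face_apply_lt _ h, shift_apply]
  · rw [face_apply_ge i (by omega), face_apply_ge _ (by omega), shift_apply]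
    congr 1
    omega

theorem face_face {j l : ℕ} (h : j ≤ l) (i : ℕ → ι) : face j (face (l + 1) i) = face l (face j i) := by
  funext m
  by_cases h1 : m < j
  · rw [face_apply_lt _ h1, face_apply_lt _ (by omega), face_apply_lt _ (by omega),
      face_apply_lt _ h1]
  · rw [face_apply_ge _ (by omega)]
    by_cases h2 : m < l
    · rw [face_apply_lt _ (by omega), face_apply_lt _ h2, face_apply_ge _ (by omega)]
    · rw [face_apply_ge _ (by omega), face_apply_ge (j := l) _ (by omega), face_apply_ge _ (by omega)]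

theorem trunc_apply (n m : ℕ) (i : ℕ → ι) : trunc n i m = i (min m n) := rfl

theorem trunc_apply_le {n m : ℕ} (i : ℕ → ι) (h : m ≤ n) : trunc n i m = i m := by
  rw [trunc_apply, min_eq_left h]

/-- The set of the first `n + 1` entries. -/
def rg (n : ℕ) (i : ℕ → ι) : Set ι := i '' Set.Iic n

theorem mem_rg {n m : ℕ} (i : ℕ → ι) (h : m ≤ n) : i m ∈ rg n i := ⟨m, h, rfl⟩

theorem rg_mono {n n' : ℕ} (h : n ≤ n') (i : ℕ → ι) : rg n i ⊆ rg n' i :=
  Set.image_mono (Set.Iic_subset_Iic.2 h)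

theorem rg_congr {n : ℕ} {i i' : ℕ → ι} (h : ∀ m ≤ n, i m = i' m) : rg n i = rg n i' := by
  ext x
  constructor
  · rintro ⟨m, hm, rfl⟩
    exact ⟨m, hm, (h m hm).symm⟩
  · rintro ⟨m, hm, rfl⟩
    exact ⟨m, hm, h m hm⟩

theorem rg_trunc (n : ℕ) (i : ℕ → ι) : rg n (trunc n i) = rg n i :=
  rg_congr fun _ hm => trunc_apply_le i hm

theorem rg_face (n j : ℕ) (i : ℕ → ι) : rg n (face j i) ⊆ rg (n + 1) i := by
  rintro _ ⟨m, hm, rfl⟩
  have hm' : m ≤ n := hm
  by_cases h : m < j
  · rw [face_apply_lt _ h]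
    exact mem_rg i (by omega)
  · rw [face_apply_ge _ (by omega)]
    exact mem_rg i (by omega)

theorem rg_shift {n r q : ℕ} (h : r + q ≤ n) (i : ℕ → ι) : rg r (shift q i) ⊆ rg n i := by
  rintro _ ⟨m, hm, rfl⟩
  have hm' : m ≤ r := hm
  exact mem_rg i (by omega)

theorem rg_nonempty (n : ℕ) (i : ℕ → ι) : (rg n i).Nonempty := ⟨i 0, mem_rg i (Nat.zero_le n)⟩

theorem rg_finite (n : ℕ) (i : ℕ → ι) : (rg n i).Finite := (Set.finite_Iic n).image i

section Dep

variable {W : Type*}

/-- `c` only depends on the first `n + 1` entries. -/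
def Dep (n : ℕ) (c : (ℕ → ι) → W) : Prop := ∀ i i' : ℕ → ι, (∀ m ≤ n, i m = i' m) → c i = c i'

theorem Dep.mono {n n' : ℕ} {c : (ℕ → ι) → W} (h : Dep n c) (hn : n ≤ n') : Dep n' c :=
  fun i i' hi => h i i' fun m hm => hi m (hm.trans hn)

theorem Dep.trunc {n : ℕ} {c : (ℕ → ι) → W} (h : Dep n c) (i : ℕ → ι) : c (trunc n i) = c i :=
  h _ _ fun _ hm => trunc_apply_le i hm

theorem dep_trunc (n : ℕ) (c : (ℕ → ι) → W) : Dep n (fun i => c (Seq.trunc n i)) := by
  intro i i' h
  have : Seq.trunc n i = Seq.trunc n i' := by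
    funext m
    exact h _ (min_le_right _ _)
  change c _ = c _
  rw [this]

theorem Dep.face_gt {n j : ℕ} {c : (ℕ → ι) → W} (h : Dep n c) (hj : n < j) (i : ℕ → ι) :
    c (face j i) = c i :=
  h _ _ fun m hm => face_apply_lt i (by omega)

theorem Dep.face {n : ℕ} {c : (ℕ → ι) → W} (h : Dep n c) (j : ℕ) :
    Dep (n + 1) (fun i => c (Seq.face j i)) := by
  intro i i' hi
  apply h
  intro m hm
  by_cases hj : m < j
  · rw [face_apply_lt _ hj, face_apply_lt _ hj, hi m (by omega)]
  · rw [face_apply_ge _ (by omega), face_apply_ge _ (by omega), hi (m + 1) (by omega)]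

theorem Dep.shift {r : ℕ} {c : (ℕ → ι) → W} (h : Dep r c) {q n : ℕ} (hn : r + q ≤ n) :
    Dep n (fun i => c (Seq.shift q i)) := by
  intro i i' hi
  apply h
  intro m hm
  exact hi _ (by omega)

end Dep

section Diff

variable {W : Type*} [AddCommGroup W]

/-- The Čech differential on functions on sequences. -/
def δ (n : ℕ) (c : (ℕ → ι) → W) (i : ℕ → ι) : W :=
  ∑ j ∈ Finset.range (n + 2), (-1 : ℤ) ^ j • c (face j i)

theorem δ_apply (n : ℕ) (c : (ℕ → ι) → W) (i : ℕ → ι) :
    δ n c i = ∑ j ∈ Finset.range (n + 2), (-1 : ℤ) ^ j • c (face j i) := rfl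

theorem δ_add (n : ℕ) (c c' : (ℕ → ι) → W) : δ n (c + c') = δ n c + δ n c' := by
  funext i
  simp only [δ_apply, Pi.add_apply, smul_add, Finset.sum_add_distrib]

theorem δ_zero (n : ℕ) : δ n (0 : (ℕ → ι) → W) = 0 := by
  funext i
  simp only [δ_apply, Pi.zero_apply, smul_zero, Finset.sum_const_zero]

theorem δ_neg (n : ℕ) (c : (ℕ → ι) → W) : δ n (-c) = -δ n c := by
  funext i
  simp only [δ_apply, Pi.neg_apply, smul_neg, Finset.sum_neg_distrib]

theorem δ_sub (n : ℕ) (c c' : (ℕ → ι) → W) : δ n (c - c') = δ n c - δ n c' := by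
  rw [sub_eq_add_neg, δ_add, δ_neg, sub_eq_add_neg]

theorem δ_smul {k : Type*} [Semiring k] [Module k W] (n : ℕ) (t : k) (c : (ℕ → ι) → W) :
    δ n (t • c) = t • δ n c := by
  funext i
  rw [Pi.smul_apply, δ_apply, δ_apply, Finset.smul_sum]
  refine Finset.sum_congr rfl fun j _ => ?_
  rw [Pi.smul_apply, smul_comm]

theorem δ_map {W' : Type*} [AddCommGroup W'] (f : W →+ W') (n : ℕ) (c : (ℕ → ι) → W) (i : ℕ → ι) :
    δ n (fun i => f (c i)) i = f (δ n c i) := by
  rw [δ_apply, δ_apply, map_sum]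
  refine Finset.sum_congr rfl fun j _ => ?_
  rw [map_zsmul]

theorem δ_δ (n : ℕ) (c : (ℕ → ι) → W) : δ (n + 1) (δ n c) = 0 := by
  funext i
  simp only [δ_apply, Finset.smul_sum, smul_smul, Pi.zero_apply]
  rw [← Finset.sum_product']
  set S := Finset.range (n + 1 + 2) ×ˢ Finset.range (n + 2) with hS
  rw [← Finset.sum_filter_add_sum_filter_not S (fun x : ℕ × ℕ => x.1 ≤ x.2)]
  rw [← eq_neg_iff_add_eq_zero, ← Finset.sum_neg_distrib]
  refine Finset.sum_nbij' (fun x => (x.2 + 1, x.1)) (fun x => (x.2, x.1 - 1)) ?_ ?_ ?_ ?_ ?_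
  · rintro ⟨a, b⟩ h
    simp only [hS, Finset.mem_filter, Finset.mem_product, Finset.mem_range] at h ⊢
    omega
  · rintro ⟨a, b⟩ h
    simp only [hS, Finset.mem_filter, Finset.mem_product, Finset.mem_range] at h ⊢
    omega
  · rintro ⟨a, b⟩ h
    simp
  · rintro ⟨a, b⟩ h
    simp only [hS, Finset.mem_filter, Finset.mem_product, Finset.mem_range] at h ⊢
    ext
    · simp; omega
    · simp
  · rintro ⟨a, b⟩ h
    simp only [hS, Finset.mem_filter, Finset.mem_product, Finset.mem_range] at h ⊢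
    rw [face_face h.2, ← neg_smul]
    congr 1
    rw [pow_succ]
    ring

theorem dep_δ {n : ℕ} {c : (ℕ → ι) → W} (h : Dep n c) : Dep (n + 1) (δ n c) := by
  intro i i' hi
  rw [δ_apply, δ_apply]
  refine Finset.sum_congr rfl fun j _ => ?_
  exact congrArg _ (h.face j i i' hi)

end Diff

section Coch

variable {k W : Type*} [Ring k] [AddCommGroup W] [Module k W]

/-- The `n`-cochains of a system of sublattices `N s ≤ W`, `s : Set ι`. -/
def Coch (N : Set ι → Submodule k W) (n : ℕ) : Submodule k ((ℕ → ι) → W) where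
  carrier := {c | Dep n c ∧ ∀ i, c i ∈ N (rg n i)}
  add_mem' := by
    rintro a b ⟨ha, ha'⟩ ⟨hb, hb'⟩
    refine ⟨fun i i' h => ?_, fun i => Submodule.add_mem _ (ha' i) (hb' i)⟩
    rw [Pi.add_apply, Pi.add_apply, ha i i' h, hb i i' h]
  zero_mem' := ⟨fun _ _ _ => rfl, fun _ => Submodule.zero_mem _⟩
  smul_mem' := by
    rintro t a ⟨ha, ha'⟩
    refine ⟨fun i i' h => ?_, fun i => Submodule.smul_mem _ _ (ha' i)⟩
    rw [Pi.smul_apply, Pi.smul_apply, ha i i' h]

theorem mem_Coch {N : Set ι → Submodule k W} {n : ℕ} {c : (ℕ → ι) → W} :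
    c ∈ Coch N n ↔ Dep n c ∧ ∀ i, c i ∈ N (rg n i) := Iff.rfl

theorem δ_mem {N : Set ι → Submodule k W} (hN : Monotone N) {n : ℕ} {c : (ℕ → ι) → W}
    (hc : c ∈ Coch N n) : δ n c ∈ Coch N (n + 1) := by
  refine ⟨dep_δ hc.1, fun i => ?_⟩
  rw [δ_apply]
  refine Submodule.sum_mem _ fun j _ => ?_
  exact zsmul_mem (hN (rg_face n j i) (hc.2 _)) _

theorem Coch_mono {N N' : Set ι → Submodule k W} (h : ∀ s, N s ≤ N' s) (n : ℕ) :
    Coch N n ≤ Coch N' n := fun _ hc => ⟨hc.1, fun i => h _ (hc.2 i)⟩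

/-- Choosing the values of a cochain sequence by sequence. -/
theorem exists_coch {N : Set ι → Submodule k W} {n : ℕ} {P : (ℕ → ι) → W → Prop}
    (hP : ∀ i, ∃ w ∈ N (rg n i), P i w)
    (hcongr : ∀ i i' : ℕ → ι, (∀ m ≤ n, i m = i' m) → ∀ w, P i w → P i' w) :
    ∃ c ∈ Coch N n, ∀ i, P i (c i) := by
  choose f hf hf' using hP
  refine ⟨fun i => f (trunc n i), ⟨dep_trunc n f, fun i => ?_⟩, fun i => ?_⟩
  · have := hf (trunc n i)
    rwa [rg_trunc] at this
  · exact hcongr _ _ (fun m hm => trunc_apply_le i hm) _ (hf' (trunc n i))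

end Coch

end K912.Seq
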