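import Groth.Agent.DelIll.K912.Tot

/-!
# The staircase argument

`ψ : 𝔾 →+ T ι W` a family of closed elements of total degree `a` for `g ∈ G a s`; `Psi ψ c` the cup product of a
cochain `c` with values in `𝔾` with `ψ`.  If `ψ` induces, for every finite nonempty `s`, a bijection of `G a s`
with the cohomology of `K a s` then `Psi` induces a bijection on the cohomology of the total complexes.
-/

set_option autoImplicit false

namespace K912.Stair

open K912.Seq K912.Cx

variable {ι W 𝔾 : Type*} [AddCommGroup W] [AddCommGroup 𝔾]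

/-- Cup product with `ψ`. -/
def Psi (ψ : 𝔾 →+ T ι W) (c : T ι 𝔾) : T ι W := fun n i =>
  ∑ q ∈ Finset.range (n + 1), ψ (c q i) (n - q) (shift q i)

theorem Psi_apply (ψ : 𝔾 →+ T ι W) (c : T ι 𝔾) (n : ℕ) (i : ℕ → ι) :
    Psi ψ c n i = ∑ q ∈ Finset.range (n + 1), ψ (c q i) (n - q) (shift q i) := rfl

theorem Psi_add (ψ : 𝔾 →+ T ι W) (c c' : T ι 𝔾) : Psi ψ (c + c') = Psi ψ c + Psi ψ c' := by
  funext n i
  simp only [Psi_apply, Pi.add_apply, map_add, Finset.sum_add_distrib]

theorem Psi_zero (ψ : 𝔾 →+ T ι W) : Psi ψ (0 : T ι 𝔾) = 0 := by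
  funext n i
  simp only [Psi_apply, Pi.zero_apply, map_zero, Finset.sum_const_zero]

theorem Psi_neg (ψ : 𝔾 →+ T ι W) (c : T ι 𝔾) : Psi ψ (-c) = -Psi ψ c := by
  rw [eq_neg_iff_add_eq_zero, ← Psi_add, neg_add_cancel, Psi_zero]

theorem Psi_sub (ψ : 𝔾 →+ T ι W) (c c' : T ι 𝔾) : Psi ψ (c - c') = Psi ψ c - Psi ψ c' := by
  rw [sub_eq_add_neg, Psi_add, Psi_neg, sub_eq_add_neg]

/-- The differential of `T ι 𝔾` without internal differential. -/
abbrev DG (c : T ι 𝔾) : T ι 𝔾 := D (0 : 𝔾 →+ 𝔾) c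

theorem DG_zero_apply (c : T ι 𝔾) : DG c 0 = 0 := by
  funext i
  rfl

theorem DG_succ_apply (c : T ι 𝔾) (n : ℕ) : DG c (n + 1) = δ n (c n) := by
  funext i
  rw [DG, D_succ_apply, AddMonoidHom.zero_apply, smul_zero, add_zero]

theorem DG_sing (q : ℕ) (c : (ℕ → ι) → 𝔾) : DG (sing q c) = sing (q + 1) (δ q c) := by
  funext n
  cases n with
  | zero => rw [DG_zero_apply, sing_ne (by omega)]
  | succ n =>
    rw [DG_succ_apply]
    by_cases h : n = q
    · subst h
      rw [sing_self, sing_self]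
    · rw [sing_ne h, sing_ne (by omega), δ_zero]

theorem Psi_sing (ψ : 𝔾 →+ T ι W) (q : ℕ) (c : (ℕ → ι) → 𝔾) (n : ℕ) (i : ℕ → ι) :
    Psi ψ (sing q c) n i = if q ≤ n then ψ (c i) (n - q) (shift q i) else 0 := by
  rw [Psi_apply]
  split_ifs with h
  · rw [Finset.sum_eq_single q]
    · rw [sing_self]
    · intro b _ hb
      rw [sing_ne hb]
      simp
    · intro hq
      exact absurd (Finset.mem_range.2 (by omega)) hq
  · refine Finset.sum_eq_zero fun b hb => ?_
    rw [sing_ne (by have := Finset.mem_range.1 hb; omega)]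
    simp

theorem Psi_sing_add (ψ : 𝔾 →+ T ι W) (q r : ℕ) (c : (ℕ → ι) → 𝔾) (i : ℕ → ι) :
    Psi ψ (sing q c) (q + r) i = ψ (c i) r (shift q i) := by
  rw [Psi_sing, if_pos (by omega), Nat.add_sub_cancel_left]

theorem Psi_sing_lt (ψ : 𝔾 →+ T ι W) {q n : ℕ} (h : n < q) (c : (ℕ → ι) → 𝔾) :
    Psi ψ (sing q c) n = 0 := by
  funext i
  rw [Psi_sing, if_neg (by omega)]
  rfl

/-- The Leibniz rule of the cup product, for one Čech degree. -/
theorem D_Psi_sing (d : W →+ W) (ψ : 𝔾 →+ T ι W) (hψ : ∀ g, D d (ψ g) = 0) (q : ℕ)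
    {c : (ℕ → ι) → 𝔾} (hc : Dep q c) :
    D d (Psi ψ (sing q c)) = Psi ψ (sing (q + 1) (δ q c)) := by
  funext n
  rcases Nat.lt_trichotomy n q with h | h | h
  · rw [Psi_sing_lt ψ (by omega : n < q + 1)]
    funext i
    cases n with
    | zero =>
      rw [D_zero_apply, Psi_sing_lt ψ h]
      exact map_zero d
    | succ n =>
      rw [D_succ_apply, Psi_sing_lt ψ h, Psi_sing_lt ψ (by omega : n < q), δ_zero]
      simp
  · subst h
    rw [Psi_sing_lt ψ (by omega : n < n + 1)]
    funext i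
    have h0 : d (Psi ψ (sing n c) n i) = 0 := by
      have h1 := Psi_sing_add ψ n 0 c i
      rw [Nat.add_zero] at h1
      rw [h1]
      exact congrFun (congrFun (hψ (c i)) 0) (shift n i)
    cases n with
    | zero => exact h0
    | succ n =>
      rw [D_succ_apply, h0, Psi_sing_lt ψ (by omega : n < n + 1), δ_zero]
      simp
  · obtain ⟨r, rfl⟩ : ∃ r, n = q + r + 1 := ⟨n - q - 1, by omega⟩
    funext i
    rw [D_succ_apply, show q + r + 1 = q + 1 + r by omega, Psi_sing_add,
      show q + 1 + r = q + (r + 1) by omega, Psi_sing_add]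
    have h1 := congrFun (congrFun (hψ (c i)) (r + 1)) (shift q i)
    rw [D_succ_apply] at h1
    have h2 : (-1 : ℤ) ^ (q + (r + 1)) • d (ψ (c i) (r + 1) (shift q i)) =
        -((-1 : ℤ) ^ q • δ r (ψ (c i) r) (shift q i)) := by
      rw [pow_add, mul_smul, ← smul_neg]
      congr 1
      rw [eq_neg_iff_add_eq_zero, add_comm]
      exact h1
    rw [h2, ← sub_eq_add_neg, sub_eq_iff_eq_add]
    rw [δ_apply, show q + r + 2 = (q + 1) + (r + 1) by omega, Finset.sum_range_add]
    have e1 : ∑ x ∈ Finset.range (q + 1), (-1 : ℤ) ^ x • Psi ψ (sing q c) (q + r) (face x i) =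
        ψ (δ q c i) r (shift (q + 1) i) -
          (-1 : ℤ) ^ (q + 1) • ψ (c i) r (shift (q + 1) i) := by
      rw [eq_sub_iff_add_eq, δ_apply, map_sum]
      rw [Finset.sum_range_succ (n := q + 1)]
      rw [show (∑ x ∈ Finset.range (q + 1), ψ ((-1 : ℤ) ^ x • c (face x i)) +
        ψ ((-1 : ℤ) ^ (q + 1) • c (face (q + 1) i))) r (shift (q + 1) i) =
        (∑ x ∈ Finset.range (q + 1), ψ ((-1 : ℤ) ^ x • c (face x i)) r (shift (q + 1) i)) +
        ψ ((-1 : ℤ) ^ (q + 1) • c (face (q + 1) i)) r (shift (q + 1) i) by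
          rw [Pi.add_apply, Pi.add_apply, Finset.sum_apply, Finset.sum_apply]]
      congr 1
      · refine Finset.sum_congr rfl fun x hx => ?_
        rw [Psi_sing_add, shift_face_le (by have := Finset.mem_range.1 hx; omega), map_zsmul]
        rfl
      · rw [hc.face_gt (by omega), map_zsmul]
        rfl
    have e2 : ∑ x ∈ Finset.range (r + 1), (-1 : ℤ) ^ (q + 1 + x) •
          Psi ψ (sing q c) (q + r) (face (q + 1 + x) i) =
        (-1 : ℤ) ^ q • (δ r (ψ (c i) r) (shift q i) - ψ (c i) r (shift (q + 1) i)) := by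
      have e0 : δ r (ψ (c i) r) (shift q i) =
          ∑ x ∈ Finset.range (r + 1), (-1 : ℤ) ^ (x + 1) • ψ (c i) r (face (x + 1) (shift q i)) +
            ψ (c i) r (shift (q + 1) i) := by
        rw [δ_apply, Finset.sum_range_succ', pow_zero, one_smul, face_zero, shift_shift,
          Nat.add_comm 1 q]
      rw [e0, add_sub_cancel_right, Finset.smul_sum]
      refine Finset.sum_congr rfl fun x _ => ?_
      rw [Psi_sing_add, hc.face_gt (by omega), show q + 1 + x = q + (x + 1) by omega, shift_face_add,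
        pow_add, mul_smul]
    rw [e1, e2, smul_sub, pow_succ, mul_smul, neg_one_smul]
    simp only [smul_neg]
    abel

theorem Psi_congr (ψ : 𝔾 →+ T ι W) {c c' : T ι 𝔾} {n : ℕ} (h : ∀ q ≤ n, c q = c' q) :
    Psi ψ c n = Psi ψ c' n := by
  funext i
  rw [Psi_apply, Psi_apply]
  refine Finset.sum_congr rfl fun q hq => ?_
  rw [h q (by have := Finset.mem_range.1 hq; omega)]

theorem Psi_sum (ψ : 𝔾 →+ T ι W) {α : Type*} (s : Finset α) (x : α → T ι 𝔾) :
    Psi ψ (∑ a ∈ s, x a) = ∑ a ∈ s, Psi ψ (x a) := by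
  classical
  induction s using Finset.induction_on with
  | empty => rw [Finset.sum_empty, Finset.sum_empty, Psi_zero]
  | insert a s ha ih => rw [Finset.sum_insert ha, Finset.sum_insert ha, Psi_add, ih]

/-- `Psi` is a morphism of complexes. -/
theorem D_Psi (d : W →+ W) (ψ : 𝔾 →+ T ι W) (hψ : ∀ g, D d (ψ g) = 0) {c : T ι 𝔾}
    (hc : ∀ q, Dep q (c q)) : D d (Psi ψ c) = Psi ψ (DG c) := by
  funext n
  have h1 : ∀ m ≤ n, c m = (∑ q ∈ Finset.range (n + 1), sing q (c q)) m := fun m hm =>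
    (sum_sing_apply c (by omega)).symm
  have e1 : Psi ψ (DG c) n = Psi ψ (DG (∑ q ∈ Finset.range (n + 1), sing q (c q))) n :=
    Psi_congr ψ (fun m hm => D_congr _ fun q hq => h1 q (hq.trans hm))
  rw [D_congr d (fun m hm => Psi_congr ψ fun q hq => h1 q (hq.trans hm)), e1, Psi_sum, D_sum]
  have h2 : DG (∑ q ∈ Finset.range (n + 1), sing q (c q)) =
      ∑ q ∈ Finset.range (n + 1), DG (sing q (c q)) := D_sum _ _ _
  rw [h2, Psi_sum]
  have e2 : ∀ q, D d (Psi ψ (sing q (c q))) = Psi ψ (DG (sing q (c q))) := fun q => by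
    rw [D_Psi_sing d ψ hψ q (hc q), DG_sing]
  simp only [e2]

section Lattice

variable {k : Type*} [Ring k] [Module k W] [Module k 𝔾]

/-- The hypotheses of the staircase argument up to degree `m`. -/
structure Hyp (d : W →+ W) (K : ℤ → Set ι → Submodule k W) (G : ℤ → Set ι → Submodule k 𝔾)
    (ψ : 𝔾 →+ T ι W) : Prop where
  sysK : Sys d K
  sysG : Sys (0 : 𝔾 →+ 𝔾) G
  dd : ∀ w, d (d w) = 0
  closed : ∀ g, D d (ψ g) = 0
  dep : ∀ g n, Dep n (ψ g n)
  mem : ∀ (a : ℤ) (s : Set ι) (g : 𝔾), g ∈ G a s → ∀ (n : ℕ) (i : ℕ → ι), rg n i ⊆ s →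
    ψ g n i ∈ K (a - n) s

variable {d : W →+ W} {K : ℤ → Set ι → Submodule k W} {G : ℤ → Set ι → Submodule k 𝔾}
  {ψ : 𝔾 →+ T ι W}

theorem Psi_mem (h : Hyp d K G ψ) {m : ℤ} {c : T ι 𝔾} (hc : c ∈ Tot G m) : Psi ψ c ∈ Tot K m := by
  intro n
  have e : Psi ψ c n = ∑ q ∈ Finset.range (n + 1), fun i => ψ (c q i) (n - q) (shift q i) := by
    funext i
    rw [Psi_apply, Finset.sum_apply]
  rw [e]
  refine Submodule.sum_mem _ fun q hq => ?_
  have hq' : q ≤ n := by have := Finset.mem_range.1 hq; omega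
  refine ⟨fun i i' hi => ?_, fun i => ?_⟩
  · dsimp only
    rw [(hc q).1 i i' fun m hm => hi m (by omega)]
    exact h.dep _ _ _ _ fun m hm => hi _ (by omega)
  · have h1 := h.mem _ _ _ (h.sysG.mono _ (rg_mono hq' i) ((hc q).2 i)) (n - q) (shift q i)
      (rg_shift (by omega) i)
    have e : m - (q : ℤ) - ((n - q : ℕ) : ℤ) = m - n := by
      rw [Nat.cast_sub hq']
      ring
    rwa [e] at h1

/-- The local hypothesis: `ψ` induces a surjection on cohomology in degree `a`. -/
def Surj (d : W →+ W) (K : ℤ → Set ι → Submodule k W) (G : ℤ → Set ι → Submodule k 𝔾)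
    (ψ : 𝔾 →+ T ι W) (a : ℤ) : Prop :=
  ∀ (s : Set ι), s.Finite → ∀ (i : ℕ → ι), i 0 ∈ s → ∀ x ∈ K a s, d x = 0 →
    ∃ g ∈ G a s, ∃ y ∈ K (a - 1) s, x = ψ g 0 i + d y

/-- The local hypothesis: `ψ` induces an injection on cohomology in degree `a`. -/
def Inj (d : W →+ W) (K : ℤ → Set ι → Submodule k W) (G : ℤ → Set ι → Submodule k 𝔾)
    (ψ : 𝔾 →+ T ι W) (a : ℤ) : Prop :=
  ∀ (s : Set ι), s.Finite → ∀ (i : ℕ → ι), i 0 ∈ s → ∀ g ∈ G a s, ∀ y ∈ K (a - 1) s,
    ψ g 0 i = d y → g = 0

/-- The value of `Psi c` in the lowest degree. -/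
theorem Psi_low {c : T ι 𝔾} {n : ℕ} (hc : ∀ q < n, c q = 0) (i : ℕ → ι) :
    Psi ψ c n i = ψ (c n i) 0 (shift n i) := by
  rw [Psi_apply, Finset.sum_eq_single n]
  · rw [Nat.sub_self]
  · intro q hq hq'
    rw [hc q (by have := Finset.mem_range.1 hq; omega)]
    simp
  · intro hn
    exact absurd (Finset.mem_range.2 (by omega)) hn

/-- `Psi` is injective. -/
theorem eq_zero_of_Psi {m : ℤ} (hinj : ∀ a ≤ m, Inj d K G ψ a) {c : T ι 𝔾}
    (hc : c ∈ Tot G m) (h0 : Psi ψ c = 0) : c = 0 := by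
  funext n
  induction n using Nat.strong_induction_on with
  | _ n ih =>
    funext i
    refine hinj (m - n) (by omega) (rg n i) (rg_finite n i) (shift n i) (mem_rg i (by omega)) _
      ((hc n).2 i) 0 (Submodule.zero_mem _) ?_
    rw [← Psi_low (fun q hq => ih q hq), h0, map_zero]
    rfl

/-- Surjectivity on cohomology. -/
theorem exists_of_closed_aux (h : Hyp d K G ψ) {m : ℤ} (hsurj : ∀ a ≤ m, Surj d K G ψ a)
    (hinj : ∀ a ≤ m, Inj d K G ψ a) (r : ℕ) :
    ∀ (q : ℕ), m < (q : ℤ) + r → ∀ x ∈ Tot K m, D d x = 0 → (∀ n < q, x n = 0) →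
      ∃ c ∈ Tot G m, DG c = 0 ∧ ∃ y ∈ Tot K (m - 1), x = Psi ψ c + D d y := by
  induction r with
  | zero =>
    intro q hq x hx hDx hx0
    have : x = 0 := by
      funext n
      by_cases hn : n < q
      · exact hx0 n hn
      · exact eq_zero_of_gt h.sysK hx (by push_cast at hq; omega)
    exact ⟨0, Submodule.zero_mem _, D_zero _, 0, Submodule.zero_mem _, by
      rw [this, Psi_zero, D_zero, add_zero]⟩
  | succ r ih =>
    intro q hq x hx hDx hx0
    -- the lowest component is closed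
    have hcl : ∀ i, d (x q i) = 0 := by
      intro i
      have h1 := congrFun (congrFun hDx q) i
      cases q with
      | zero => exact h1
      | succ q =>
        rw [D_succ_apply, hx0 q (by omega), δ_zero, Pi.zero_apply, zero_add] at h1
        have h2 := congrArg (fun w => (-1 : ℤ) ^ (q + 1) • w) h1
        simp only [smul_smul, ← mul_pow] at h2
        simpa using h2
    -- choose the local decompositions
    obtain ⟨gy, hgy, hgy'⟩ := exists_coch (k := k) (W := 𝔾 × W)
      (N := fun s => (G (m - q) s).prod (K (m - 1 - q) s)) (n := q)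
      (P := fun i w => x q i = ψ w.1 0 (shift q i) + d w.2) (fun i => by
        obtain ⟨g, hg, y, hy, hxy⟩ := hsurj (m - q) (by omega) (rg q i) (rg_finite q i) (shift q i)
          (mem_rg i (by omega)) (x q i) ((hx q).2 i) (hcl i)
        refine ⟨(g, y), ⟨hg, ?_⟩, hxy⟩
        have e : m - 1 - (q : ℤ) = m - q - 1 := by ring
        change y ∈ K (m - 1 - q) (rg q i)
        rwa [e]) (fun i i' hi w hw => by
        rw [← (hx q).1 i i' hi, hw]
        congr 1
        exact h.dep _ 0 _ _ fun m hm => hi _ (by omega))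
    set g : (ℕ → ι) → 𝔾 := fun i => (gy i).1 with hgdef
    set y : (ℕ → ι) → W := fun i => (gy i).2 with hydef
    have hg : g ∈ Coch (G (m - q)) q :=
      ⟨fun i i' hi => congrArg Prod.fst (hgy.1 i i' hi), fun i => (hgy.2 i).1⟩
    have hy : y ∈ Coch (K (m - 1 - q)) q :=
      ⟨fun i i' hi => congrArg Prod.snd (hgy.1 i i' hi), fun i => (hgy.2 i).2⟩
    have hxy : ∀ i, x q i = ψ (g i) 0 (shift q i) + d (y i) := hgy'
    -- `δ g = 0`
    have hδg : δ q g = 0 := by
      funext i
      have hmem := (δ_mem (h.sysG.mono _) hg).2 i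
      have hmem' := (δ_mem (h.sysK.mono _) hy).2 i
      -- the value of the closed element ψ (g i)
      have hc1 : ψ (g i) 0 (shift (q + 1) i) =
          ψ (g i) 0 (shift q i) + d (ψ (g i) 1 (shift q i)) := by
        have h1 := congrFun (congrFun (h.closed (g i)) 1) (shift q i)
        rw [D_succ_apply, δ_apply, Finset.sum_range_succ, Finset.sum_range_one, face_zero, shift_shift,
          (h.dep (g i) 0).face_gt (by omega : 0 < 1)] at h1
        simp only [pow_zero, one_smul, zero_add, pow_one, neg_smul] at h1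
        rw [Nat.add_comm 1 q] at h1
        have h2 : ψ (g i) 0 (shift (q + 1) i) - ψ (g i) 0 (shift q i) -
          d (ψ (g i) 1 (shift q i)) = 0 := by
          rw [sub_eq_add_neg, sub_eq_add_neg]
          exact h1
        rw [sub_sub, sub_eq_zero] at h2
        exact h2
      have hDx1 : δ q (x q) i + (-1 : ℤ) ^ (q + 1) • d (x (q + 1) i) = 0 :=
        congrFun (congrFun hDx (q + 1)) i
      have hδx : δ q (x q) i = ψ (δ q g i) 0 (shift (q + 1) i) -
          (-1 : ℤ) ^ (q + 1) • d (ψ (g i) 1 (shift q i)) + d (δ q y i) := by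
        have e1 : δ q (x q) i = (∑ j ∈ Finset.range (q + 2),
            (-1 : ℤ) ^ j • ψ (g (face j i)) 0 (shift q (face j i))) + d (δ q y i) := by
          rw [← δ_map, δ_apply, δ_apply, ← Finset.sum_add_distrib]
          refine Finset.sum_congr rfl fun j _ => ?_
          rw [hxy, smul_add]
        rw [e1]
        congr 1
        rw [eq_sub_iff_add_eq, Finset.sum_range_succ
          (fun j => (-1 : ℤ) ^ j • ψ (g (face j i)) 0 (shift q (face j i))) (q + 1), δ_apply, map_sum,
          Finset.sum_range_succ (fun x => ψ ((-1 : ℤ) ^ x • g (face x i))) (q + 1)]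
        have e2 : (∑ x ∈ Finset.range (q + 1), ψ ((-1 : ℤ) ^ x • g (face x i)) +
            ψ ((-1 : ℤ) ^ (q + 1) • g (face (q + 1) i))) 0 (shift (q + 1) i) =
            (∑ x ∈ Finset.range (q + 1), ψ ((-1 : ℤ) ^ x • g (face x i)) 0 (shift (q + 1) i)) +
            ψ ((-1 : ℤ) ^ (q + 1) • g (face (q + 1) i)) 0 (shift (q + 1) i) := by
          rw [Pi.add_apply, Pi.add_apply, Finset.sum_apply, Finset.sum_apply]
        rw [e2, add_assoc]
        congr 1
        · refine Finset.sum_congr rfl fun j hj => ?_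
          rw [shift_face_le (by have := Finset.mem_range.1 hj; omega), map_zsmul]
          rfl
        · rw [hg.1.face_gt (by omega), map_zsmul]
          change _ = (-1 : ℤ) ^ (q + 1) • ψ (g i) 0 (shift (q + 1) i)
          rw [hc1, smul_add]
          congr 2
          rw [show q + 1 = q + 1 from rfl, shift_face_add 1 q i]
          exact (h.dep (g i) 0).face_gt (by omega) _
      refine hinj (m - q) (by omega) (rg (q + 1) i) (rg_finite _ i) (shift (q + 1) i)
        (mem_rg i (by omega)) _ hmem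
        ((-1 : ℤ) ^ (q + 1) • ψ (g i) 1 (shift q i) - δ q y i - (-1 : ℤ) ^ (q + 1) • x (q + 1) i)
        ?_ ?_
      · refine Submodule.sub_mem _ (Submodule.sub_mem _ (zsmul_mem ?_ _) ?_) (zsmul_mem ?_ _)
        · have h1 := h.mem _ _ _ (h.sysG.mono _ (rg_mono (Nat.le_succ q) i) (hg.2 i)) 1 (shift q i)
            (rg_shift (by omega) i)
          exact_mod_cast h1
        · have e : m - (q : ℤ) - 1 = m - 1 - q := by ring
          rwa [e]
        · have h1 := (hx (q + 1)).2 i
          have e : m - ((q + 1 : ℕ) : ℤ) = m - q - 1 := by push_cast; ring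
          rwa [e] at h1
      · rw [map_sub, map_sub, map_zsmul, map_zsmul]
        rw [hδx] at hDx1
        have h3 : ψ (δ q g i) 0 (shift (q + 1) i) = -(-(-1 : ℤ) ^ (q + 1) • d (ψ (g i) 1 (shift q i)) +
          d (δ q y i) + (-1 : ℤ) ^ (q + 1) • d (x (q + 1) i)) := by
          rw [eq_neg_iff_add_eq_zero, ← hDx1]
          simp only [neg_smul]
          abel
        rw [h3]
        simp only [neg_smul]
        abel
    -- subtract and use induction
    have hs1 : sing q g ∈ Tot G m := sing_mem hg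
    have hs2 : sing q ((-1 : ℤ) ^ q • y) ∈ Tot K (m - 1) := sing_mem (zsmul_mem hy _)
    obtain ⟨c, hc, hDc, y', hy', hxy'⟩ := ih (q + 1) (by push_cast at hq ⊢; omega)
      (x - Psi ψ (sing q g) - D d (sing q ((-1 : ℤ) ^ q • y)))
      (Submodule.sub_mem _ (Submodule.sub_mem _ hx (Psi_mem h hs1)) (by
        have := D_mem h.sysK hs2
        rwa [sub_add_cancel] at this))
      (by
        rw [D_sub, D_sub, hDx, D_D d h.dd, D_Psi_sing d ψ h.closed q hg.1, hδg]
        have : sing (q + 1) (0 : (ℕ → ι) → 𝔾) = 0 := by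
          funext n
          by_cases hn : n = q + 1
          · rw [hn, sing_self]
            rfl
          · rw [sing_ne hn]
            rfl
        rw [this, Psi_zero, sub_zero, sub_zero])
      (by
        intro n hn
        funext i
        rw [Pi.sub_apply, Pi.sub_apply, Pi.sub_apply, Pi.sub_apply]
        rcases Nat.lt_succ_iff_lt_or_eq.1 hn with hn | rfl
        · rw [hx0 n hn, Psi_sing_lt ψ hn, D_sing_lt d hn]
          simp
        · have h1 := Psi_sing_add ψ n 0 g i
          rw [Nat.add_zero] at h1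
          rw [h1, D_sing_self, hxy i, Pi.smul_apply, map_zsmul, smul_smul, ← mul_pow]
          simp)
    refine ⟨c + sing q g, Submodule.add_mem _ hc hs1, ?_, y' + sing q ((-1 : ℤ) ^ q • y),
      Submodule.add_mem _ hy' hs2, ?_⟩
    · have h1 : DG (c + sing q g) = DG c + DG (sing q g) := D_add _ _ _
      rw [h1, hDc, DG_sing, hδg, zero_add]
      funext n
      by_cases hn : n = q + 1
      · rw [hn, sing_self]
        rfl
      · rw [sing_ne hn]
        rfl
    · rw [Psi_add, D_add]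
      rw [sub_sub, sub_eq_iff_eq_add] at hxy'
      rw [hxy']
      abel

/-- Surjectivity on cohomology in degree `m`. -/
theorem exists_of_closed (h : Hyp d K G ψ) {m : ℤ} (hsurj : ∀ a ≤ m, Surj d K G ψ a)
    (hinj : ∀ a ≤ m, Inj d K G ψ a) {x : T ι W} (hx : x ∈ Tot K m) (hDx : D d x = 0) :
    ∃ c ∈ Tot G m, DG c = 0 ∧ ∃ y ∈ Tot K (m - 1), x = Psi ψ c + D d y :=
  exists_of_closed_aux h hsurj hinj (m.toNat + 1) 0 (by push_cast; omega) x hx hDx (fun n hn => by omega)

theorem sing_zero_eq (q : ℕ) : sing q (0 : (ℕ → ι) → 𝔾) = 0 := by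
  funext n
  by_cases hn : n = q
  · rw [hn, sing_self]
    rfl
  · rw [sing_ne hn]
    rfl

/-- Injectivity on cohomology. -/
theorem exists_of_exact_aux (h : Hyp d K G ψ) {m : ℤ} (hsurj : ∀ a ≤ m - 1, Surj d K G ψ a)
    (hinj : ∀ a ≤ m, Inj d K G ψ a) (r : ℕ) :
    ∀ (q : ℕ), m - 1 < (q : ℤ) + r → ∀ c ∈ Tot G m, ∀ y ∈ Tot K (m - 1),
      DG c = 0 → Psi ψ c = D d y → (∀ n < q, y n = 0) → ∃ c' ∈ Tot G (m - 1), c = DG c' := by
  induction r with
  | zero =>
    intro q hq c hc y hy hDc hcy hy0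
    have : y = 0 := by
      funext n
      by_cases hn : n < q
      · exact hy0 n hn
      · exact eq_zero_of_gt h.sysK hy (by push_cast at hq; omega)
    rw [this, D_zero] at hcy
    refine ⟨0, Submodule.zero_mem _, ?_⟩
    rw [eq_zero_of_Psi hinj hc hcy]
    exact (D_zero _).symm
  | succ r ih =>
    intro q hq c hc y hy hDc hcy hy0
    have hc0 : ∀ n < q, c n = 0 := by
      intro n
      induction n using Nat.strong_induction_on with
      | _ n ihn =>
        intro hn
        funext i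
        refine hinj (m - n) (by omega) (rg n i) (rg_finite n i) (shift n i) (mem_rg i (by omega)) _
          ((hc n).2 i) 0 (Submodule.zero_mem _) ?_
        rw [← Psi_low (fun q hq' => ihn q hq' (by omega)), hcy, map_zero]
        cases n with
        | zero => rw [D_zero_apply, hy0 0 hn, Pi.zero_apply, map_zero]
        | succ n =>
          rw [D_succ_apply, hy0 n (by omega), hy0 (n + 1) hn, δ_zero]
          simp
    have hDy : ∀ i, D d y q i = (-1 : ℤ) ^ q • d (y q i) := by
      intro i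
      cases q with
      | zero => rw [D_zero_apply, pow_zero, one_smul]
      | succ q => rw [D_succ_apply, hy0 q (by omega), δ_zero, Pi.zero_apply, zero_add]
    have hcq : c q = 0 := by
      funext i
      refine hinj (m - q) (by omega) (rg q i) (rg_finite q i) (shift q i) (mem_rg i (by omega)) _
          ((hc q).2 i) ((-1 : ℤ) ^ q • y q i) (zsmul_mem ?_ _) ?_
      · have e : m - (q : ℤ) - 1 = m - 1 - q := by ring
        rw [e]
        exact (hy q).2 i
      · rw [← Psi_low hc0, hcy, hDy, map_zsmul]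
    have hcl : ∀ i, d (y q i) = 0 := by
      intro i
      have h1 := hDy i
      rw [← hcy, Psi_low hc0, hcq, Pi.zero_apply, map_zero] at h1
      have h2 := congrArg (fun w => (-1 : ℤ) ^ q • w) h1.symm
      simp only [smul_smul, ← mul_pow] at h2
      simpa using h2
    obtain ⟨gy, hgy, hgy'⟩ := exists_coch (k := k) (W := 𝔾 × W)
      (N := fun s => (G (m - 1 - q) s).prod (K (m - 1 - 1 - q) s)) (n := q)
      (P := fun i w => y q i = ψ w.1 0 (shift q i) + d w.2) (fun i => by
        obtain ⟨g, hg, z, hz, hyz⟩ := hsurj (m - 1 - q) (by omega) (rg q i) (rg_finite q i)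
          (shift q i) (mem_rg i (by omega)) (y q i) ((hy q).2 i) (hcl i)
        refine ⟨(g, z), ⟨hg, ?_⟩, hyz⟩
        have e : m - 1 - 1 - (q : ℤ) = m - 1 - q - 1 := by ring
        change z ∈ K (m - 1 - 1 - q) (rg q i)
        rwa [e]) (fun i i' hi w hw => by
        rw [← (hy q).1 i i' hi, hw]
        congr 1
        exact h.dep _ 0 _ _ fun m hm => hi _ (by omega))
    set g : (ℕ → ι) → 𝔾 := fun i => (gy i).1 with hgdef
    set z : (ℕ → ι) → W := fun i => (gy i).2 with hzdef
    have hg : g ∈ Coch (G (m - 1 - q)) q :=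
      ⟨fun i i' hi => congrArg Prod.fst (hgy.1 i i' hi), fun i => (hgy.2 i).1⟩
    have hz : z ∈ Coch (K (m - 1 - 1 - q)) q :=
      ⟨fun i i' hi => congrArg Prod.snd (hgy.1 i i' hi), fun i => (hgy.2 i).2⟩
    have hyz : ∀ i, y q i = ψ (g i) 0 (shift q i) + d (z i) := hgy'
    have hs1 : sing q g ∈ Tot G (m - 1) := sing_mem hg
    have hs2 : sing q ((-1 : ℤ) ^ q • z) ∈ Tot K (m - 1 - 1) := sing_mem (zsmul_mem hz _)
    have hDGs : DG (sing q g) ∈ Tot G m := by
      have := D_mem h.sysG hs1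
      rwa [sub_add_cancel] at this
    obtain ⟨c', hc', hcc'⟩ := ih (q + 1) (by push_cast at hq ⊢; omega) (c - DG (sing q g))
      (Submodule.sub_mem _ hc hDGs)
      (y - Psi ψ (sing q g) - D d (sing q ((-1 : ℤ) ^ q • z)))
      (Submodule.sub_mem _ (Submodule.sub_mem _ hy (Psi_mem h hs1)) (by
        have := D_mem h.sysK hs2
        rwa [sub_add_cancel] at this))
      (by
        have h1 : DG (c - DG (sing q g)) = DG c - DG (DG (sing q g)) := D_sub _ _ _
        have h2 : DG (DG (sing q g)) = 0 := D_D _ (fun _ => rfl) _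
        rw [h1, h2, hDc, sub_zero])
      (by
        rw [Psi_sub, D_sub, D_sub, D_D d h.dd, D_Psi_sing d ψ h.closed q hg.1, hcy, DG_sing, sub_zero])
      (by
        intro n hn
        funext i
        rw [Pi.sub_apply, Pi.sub_apply, Pi.sub_apply, Pi.sub_apply]
        rcases Nat.lt_succ_iff_lt_or_eq.1 hn with hn | rfl
        · rw [hy0 n hn, Psi_sing_lt ψ hn, D_sing_lt d hn]
          simp
        · have h1 := Psi_sing_add ψ n 0 g i
          rw [Nat.add_zero] at h1
          rw [h1, D_sing_self, hyz i, Pi.smul_apply, map_zsmul, smul_smul, ← mul_pow]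
          simp)
    refine ⟨c' + sing q g, Submodule.add_mem _ hc' hs1, ?_⟩
    have h1 : DG (c' + sing q g) = DG c' + DG (sing q g) := D_add _ _ _
    rw [h1, ← hcc', sub_add_cancel]

/-- Injectivity on cohomology in degree `m`. -/
theorem exists_of_exact (h : Hyp d K G ψ) {m : ℤ} (hsurj : ∀ a ≤ m - 1, Surj d K G ψ a)
    (hinj : ∀ a ≤ m, Inj d K G ψ a) {c : T ι 𝔾} (hc : c ∈ Tot G m) (hDc : DG c = 0) {y : T ι W}
    (hy : y ∈ Tot K (m - 1)) (hcy : Psi ψ c = D d y) : ∃ c' ∈ Tot G (m - 1), c = DG c' :=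
  exists_of_exact_aux h hsurj hinj (m.toNat + 1) 0 (by push_cast; omega) c hc y hy hDc hcy
    (fun n hn => by omega)

end Lattice

end K912.Stair
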