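import Groth.Agent.DelIll.K912.Seq
import Mathlib.Algebra.Group.NatPowAssoc
import Mathlib.Algebra.Ring.NegOnePow

/-!
# The total Čech complex of a differential module, and closed operators on it

`T ι W = ℕ → (ℕ → ι) → W`; `D d` is the total differential; `Tot K m` the elements of total degree `m` of the
system of lattices `K : ℤ → Set ι → Submodule k W`.
-/

set_option autoImplicit false

namespace K912.Cx

open K912.Seq

/-- Families of functions on sequences. -/
abbrev T (ι W : Type*) : Type _ := ℕ → (ℕ → ι) → W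

variable {ι W : Type*} [AddCommGroup W]

/-- The total differential. -/
def D (d : W →+ W) (x : T ι W) : T ι W
  | 0 => fun i => d (x 0 i)
  | n + 1 => fun i => δ n (x n) i + (-1 : ℤ) ^ (n + 1) • d (x (n + 1) i)

theorem D_zero_apply (d : W →+ W) (x : T ι W) (i : ℕ → ι) : D d x 0 i = d (x 0 i) := rfl

theorem D_succ_apply (d : W →+ W) (x : T ι W) (n : ℕ) (i : ℕ → ι) :
    D d x (n + 1) i = δ n (x n) i + (-1 : ℤ) ^ (n + 1) • d (x (n + 1) i) := rfl

theorem D_add (d : W →+ W) (x y : T ι W) : D d (x + y) = D d x + D d y := by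
  funext n i
  cases n with
  | zero =>
    change d (x 0 i + y 0 i) = d (x 0 i) + d (y 0 i)
    rw [map_add]
  | succ n =>
    change δ n (x n + y n) i + (-1 : ℤ) ^ (n + 1) • d (x (n + 1) i + y (n + 1) i) = (_ + _) + (_ + _)
    rw [δ_add, map_add, smul_add, Pi.add_apply]
    abel

theorem D_zero (d : W →+ W) : D d (0 : T ι W) = 0 := by
  have h := D_add d (0 : T ι W) 0
  rw [add_zero] at h
  exact left_eq_add.1 h

theorem D_neg (d : W →+ W) (x : T ι W) : D d (-x) = -D d x := by
  rw [eq_neg_iff_add_eq_zero, ← D_add, neg_add_cancel, D_zero]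

theorem D_sub (d : W →+ W) (x y : T ι W) : D d (x - y) = D d x - D d y := by
  rw [sub_eq_add_neg, D_add, D_neg, sub_eq_add_neg]

theorem D_smul {k : Type*} [Semiring k] [Module k W] (d : W →+ W) (t : k)
    (ht : ∀ w, d (t • w) = t • d w) (x : T ι W) : D d (t • x) = t • D d x := by
  funext n i
  cases n with
  | zero => exact ht _
  | succ n =>
    change δ n (t • x n) i + (-1 : ℤ) ^ (n + 1) • d (t • x (n + 1) i) = t • (_ + _)
    rw [δ_smul, ht, smul_add, smul_comm t, Pi.smul_apply]

theorem D_D (d : W →+ W) (hd : ∀ w, d (d w) = 0) (x : T ι W) : D d (D d x) = 0 := by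
  funext n i
  cases n with
  | zero => exact hd _
  | succ n =>
    rw [D_succ_apply]
    cases n with
    | zero =>
      rw [D_succ_apply, map_add, map_zsmul, hd, smul_zero, add_zero, ← δ_map d 0 (x 0) i]
      change δ 0 (fun i => d (x 0 i)) i + (-1 : ℤ) ^ 1 • δ 0 (fun i => d (x 0 i)) i = 0
      simp
    | succ n =>
      rw [D_succ_apply, map_add, map_zsmul, hd, smul_zero, add_zero]
      have h1 : D d x (n + 1) = δ n (x n) + (-1 : ℤ) ^ (n + 1) • (fun i => d (x (n + 1) i)) := by
        funext i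
        rfl
      rw [h1, δ_add, δ_δ, zero_add, δ_smul, ← δ_map d (n + 1) (x (n + 1)) i, Pi.smul_apply,
        pow_succ (-1 : ℤ) (n + 1)]
      simp

/-- The element concentrated in Čech degree `q`. -/
def sing (q : ℕ) (c : (ℕ → ι) → W) : T ι W := fun n => if n = q then c else 0

theorem sing_self (q : ℕ) (c : (ℕ → ι) → W) : sing q c q = c := if_pos rfl

theorem sing_ne {q n : ℕ} (h : n ≠ q) (c : (ℕ → ι) → W) : sing q c n = 0 := if_neg h

theorem D_sing_lt (d : W →+ W) {q n : ℕ} (h : n < q) (c : (ℕ → ι) → W) : D d (sing q c) n = 0 := by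
  funext i
  cases n with
  | zero =>
    rw [D_zero_apply, sing_ne (by omega)]
    exact map_zero d
  | succ n =>
    rw [D_succ_apply, sing_ne (by omega), sing_ne (by omega), δ_zero]
    simp

theorem D_sing_self (d : W →+ W) (q : ℕ) (c : (ℕ → ι) → W) (i : ℕ → ι) :
    D d (sing q c) q i = (-1 : ℤ) ^ q • d (c i) := by
  cases q with
  | zero => rw [D_zero_apply, sing_self, pow_zero, one_smul]
  | succ q =>
    rw [D_succ_apply, sing_ne (by omega), sing_self, δ_zero, Pi.zero_apply, zero_add]

theorem D_congr (d : W →+ W) {x y : T ι W} {n : ℕ} (h : ∀ m ≤ n, x m = y m) : D d x n = D d y n := by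
  funext i
  cases n with
  | zero => rw [D_zero_apply, D_zero_apply, h 0 le_rfl]
  | succ n => rw [D_succ_apply, D_succ_apply, h n (by omega), h (n + 1) le_rfl]

theorem D_sum (d : W →+ W) {α : Type*} (s : Finset α) (x : α → T ι W) :
    D d (∑ a ∈ s, x a) = ∑ a ∈ s, D d (x a) := by
  classical
  induction s using Finset.induction_on with
  | empty => rw [Finset.sum_empty, Finset.sum_empty, D_zero]
  | insert a s ha ih => rw [Finset.sum_insert ha, Finset.sum_insert ha, D_add, ih]

theorem sum_sing_apply (x : T ι W) {n N : ℕ} (h : n < N) :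
    (∑ q ∈ Finset.range N, sing q (x q)) n = x n := by
  rw [Finset.sum_apply, Finset.sum_eq_single n]
  · exact sing_self _ _
  · intro q _ hq
    exact sing_ne (Ne.symm hq) _
  · intro hn
    exact absurd (Finset.mem_range.2 h) hn

section Lattice

variable {k : Type*} [Ring k] [Module k W]

/-- The elements of total degree `m`. -/
def Tot (K : ℤ → Set ι → Submodule k W) (m : ℤ) : Submodule k (T ι W) where
  carrier := {x | ∀ n : ℕ, x n ∈ Coch (K (m - n)) n}
  add_mem' := fun ha hb n => Submodule.add_mem _ (ha n) (hb n)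
  zero_mem' := fun _ => Submodule.zero_mem _
  smul_mem' := fun t _ ha n => Submodule.smul_mem _ t (ha n)

theorem mem_Tot {K : ℤ → Set ι → Submodule k W} {m : ℤ} {x : T ι W} :
    x ∈ Tot K m ↔ ∀ n : ℕ, x n ∈ Coch (K (m - n)) n := Iff.rfl

/-- The hypotheses on a system of lattices. -/
structure Sys (d : W →+ W) (K : ℤ → Set ι → Submodule k W) : Prop where
  mono : ∀ a, Monotone (K a)
  neg : ∀ a : ℤ, a < 0 → ∀ s, K a s = ⊥
  d_mem : ∀ a s w, w ∈ K a s → d w ∈ K (a + 1) s

variable {d : W →+ W} {K : ℤ → Set ι → Submodule k W}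

theorem D_mem (hK : Sys d K) {m : ℤ} {x : T ι W} (hx : x ∈ Tot K m) : D d x ∈ Tot K (m + 1) := by
  intro n
  cases n with
  | zero =>
    have h := hx 0
    refine ⟨fun i i' hi => ?_, fun i => ?_⟩
    · rw [D_zero_apply, D_zero_apply, h.1 i i' hi]
    · rw [D_zero_apply]
      have := hK.d_mem _ _ _ (h.2 i)
      simpa using this
  | succ n =>
    have h := hx (n + 1)
    have h' := δ_mem (hK.mono _) (hx n)
    have e : m + 1 - ((n + 1 : ℕ) : ℤ) = m - n := by push_cast; ring
    rw [e]
    refine ⟨fun i i' hi => ?_, fun i => ?_⟩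
    · rw [D_succ_apply, D_succ_apply, h.1 i i' hi, h'.1 i i' hi]
    · rw [D_succ_apply]
      refine Submodule.add_mem _ (h'.2 i) (zsmul_mem ?_ _)
      have := hK.d_mem _ _ _ (h.2 i)
      have e' : m - ((n + 1 : ℕ) : ℤ) + 1 = m - n := by push_cast; ring
      rwa [e'] at this

theorem eq_zero_of_gt (hK : Sys d K) {m : ℤ} {x : T ι W} (hx : x ∈ Tot K m) {n : ℕ} (hn : m < n) :
    x n = 0 := by
  funext i
  have := (hx n).2 i
  rw [hK.neg _ (by omega)] at this
  exact this

theorem sing_mem {m : ℤ} {q : ℕ} {c : (ℕ → ι) → W} (hc : c ∈ Coch (K (m - q)) q) :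
    sing q c ∈ Tot K m := by
  intro n
  by_cases h : n = q
  · subst h
    rwa [sing_self]
  · rw [sing_ne h]
    exact Submodule.zero_mem _

end Lattice

end K912.Cx
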